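import Cfsg.Agent.ZN.Fin
import Cfsg.Agent.Inv.Strong
/-! ZN-groups of local characteristic 2. -/
set_option autoImplicit false
set_option linter.unusedSectionVars false
set_option linter.unusedVariables false

namespace Cfsg.Agent.ZN
open Subgroup Cfsg.Agent.BG Cfsg.Agent.Fac
open Cfsg.Agent.PLoc (JOf maxEA ZJOf)

universe u
variable {G : Type u} [Group G] [Finite G] {A B D M N P P₁ P₂ S T U V W X : Subgroup G} {g : G}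

theorem select {𝒯 : Subgroup G → Prop} (h1 : ∀ T, 𝒯 T → PiG {2} T) (h2 : ∀ T X, 𝒯 T → X ≤ T → 𝒯 X) (h3 : 𝒯 U)
    (h4 : U ≠ ⊥) : ∃ B, 𝒯 B ∧ B ≠ ⊥ ∧ ∀ T, 𝒯 T → B ≤ T → Bau T = B := by
  obtain ⟨A₀, a₀⟩ := PLoc.maxEA_nonempty (e := 2) U
  obtain ⟨⟨S, A⟩, ⟨s, s0, a : A ∈ maxEA 2 S⟩, mx⟩ := Set.exists_max_image
    {x : Subgroup G × Subgroup G | 𝒯 x.1 ∧ x.1 ≠ ⊥ ∧ x.2 ∈ maxEA 2 x.1}
    (fun x => toLex (#x.2, toLex (#(JOf 2 x.1), #(Bau x.1)))) (Set.toFinite _) ⟨(U, A₀), h3, h4, a₀⟩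
  have b0 := Bau_ne (h1 S s) s0
  refine ⟨Bau S, h2 _ _ s (Bau_le S), b0, fun T t l => ?_⟩
  obtain ⟨D, d⟩ := PLoc.maxEA_nonempty (e := 2) T
  have AB := (PLoc.le_JOf a).trans (J_le_Bau S)
  have m := mx (T, D) ⟨t, fun e => b0 (eq_bot_iff.2 (l.trans e.le)), d⟩
  simp only [Prod.Lex.toLex_le_toLex] at m
  have c := d.2.2 A (AB.trans l) a.2.1
  have j : JOf 2 S ≤ JOf 2 T := J_Bau S ▸ PLoc.JOf_le_JOf (PLoc.mem_maxEA_of_card d (AB.trans l) a.2.1 (by omega)) AB l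
  have cj := card_le j
  have e : JOf 2 S = JOf 2 T := eq_of_card_le j (by omega)
  have z : ZJOf 2 T = ZJOf 2 S := by rw [PLoc.ZJOf_eq_omegaOne, PLoc.ZJOf_eq_omegaOne, e]
  have i : Bau S ≤ Bau T := le_inf l (z ▸ inf_le_right)
  have := card_le i
  rw [e] at m
  exact (eq_of_card_le i (by omega)).symm

theorem grow (pS : PiG {2} S) (h1 : X ≤ S) (h2 : Bau X = B) (h3 : S ⊓ N[B] ≤ X) : X = S :=
  pS.nil.eq_of_norm h1 ((inf_le_inf_left _ (h2 ▸ normBau le_rfl)).trans h3)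

/-- the Baumann subgroup of a Sylow subgroup -/
def Glob (B : Subgroup G) : Prop := ∀ T, PiG {2} T → B ≤ T → Bau T = B

theorem Glob.cj (h : Glob B) (g : G) : Glob (cj g B) := fun T a b => by
  rw [← h _ (a.cj g⁻¹) (cj_le_iff.1 b), cj_Bau, cj_cj_inv]

structure Hyp (G : Type u) [Group G] : Prop where
  ch : ∀ U : Subgroup G, PiG {2} U → U ≠ ⊥ → N[U] ⊓ C[O[{2}](N[U])] ≤ O[{2}](N[U])
  sol : ∀ U : Subgroup G, PiG {2} U → U ≠ ⊥ → Sol N[U]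
  z : ∀ S : Subgroup G, Syl 2 S ⊤ → C[Ω[2](Z[S])] ≤ N[S]

theorem Hyp.loc (h : Hyp G) (pU : PiG {2} U) (u0 : U ≠ ⊥) (s : Syl 2 T N[U]) : ∃ V 𝒱, LP N[U] T V 𝒱 := by
  refine Loc.ex ⟨s, h.sol U pU u0, h.ch U pU u0, ?_⟩
  obtain ⟨S, a, b⟩ := syl_superset p2 le_top s.pi
  have e : S ⊓ N[U] = T := (eq_of_card_le (le_inf b s.le) (Syl.card_le s (a.pi.of_le inf_le_left) inf_le_right)).symm
  have l : Ω[2](Z[S]) ≤ Ω[2](Z[T]) := le_OmZ (le_of_le_of_eq (le_inf (OmZ_le 2 S) (cents_norm ((OmZ_cent 2 S).trans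
    (centS ((s.le_of_norm' pU (normG U) s.le).trans b))))) e) ((OmZ_cent 2 S).trans (centS b)) (OmZ_abelem 2 S)
  have := normI (inf_le_right.trans ((centS l).trans (h.z S a))) (normsG (inf_le_left (a := N[U])))
  rwa [e] at this

theorem Hyp.am (h : Hyp G) {S₀ U₀ : Subgroup G} (s₀ : Syl 2 S₀ ⊤) (g₀ : Glob (Bau S₀)) (pU : PiG {2} U₀) (u0 : U₀ ≠ ⊥)
    (hM : M = N[U₀]) (l₀ : N[Bau S₀] ≤ M) (mx : ∀ U, PiG {2} U → U ≠ ⊥ → M ≤ N[U] → N[U] ≤ M)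
    (pX : PiG {2} X) (x0 : X ≠ ⊥) (XM : X ≤ M) (nX : ¬ N[X] ≤ M) : ∃ P₁ P₂ B : Subgroup G, Am P₁ P₂ B := by
  obtain ⟨B, ⟨pB, BM, U, pU', u0', BU, nU⟩, b0, hB⟩ := select (U := X)
    (𝒯 := fun T => PiG {2} T ∧ T ≤ M ∧ ∃ U, PiG {2} U ∧ U ≠ ⊥ ∧ T ≤ N[U] ∧ ¬ N[U] ≤ M) (fun T a => a.1)
    (fun T Y ⟨a, b, U, c, d, e, f⟩ l => ⟨a.of_le l, l.trans b, U, c, d, l.trans e, f⟩) ⟨pX, XM, X, pX, x0, normG X, nX⟩ x0
  obtain ⟨m, m1, m2⟩ := Syl.sub_cj (s₀.sub ((normBau (normG S₀)).trans l₀) le_top) p2 BM pB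
  have SM : cj m S₀ ≤ M := cj_le_of_mem ((normBau (normG S₀)).trans l₀) (normG M m1)
  have key : ∀ W, PiG {2} W → W ≠ ⊥ → N[B] ≤ N[W] → ¬ N[W] ≤ M → B = cj m (Bau S₀) := fun W a b c d => by
    have e := hB (cj m S₀ ⊓ N[B]) ⟨(s₀.pi.cj m).of_le inf_le_left, inf_le_left.trans SM, W, a, b, inf_le_right.trans c, d⟩
      (le_inf m2 (normG B))
    rw [grow (s₀.pi.cj m) inf_le_left e le_rfl] at e
    rw [cj_Bau, e]
  have nB : N[B] ≤ M := by_contra fun i => i (by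
    rw [key B pB b0 le_rfl i, ← cj_N]; exact cj_le_of_mem l₀ (normG M m1))
  have bb : ∀ P, (Glob B ∨ ¬ P ≤ M) → ∀ U, PiG {2} U → U ≠ ⊥ → P ≤ N[U] → ∀ T ≤ N[U], PiG {2} T → B ≤ T → Bau T = B :=
    fun P i U a b c T d e f => i.elim (fun i => i T e f) fun i => by
      have j := hB (T ⊓ M) ⟨e.of_le inf_le_left, inf_le_right, U, a, b, inf_le_left.trans d, fun l => i (c.trans l)⟩
        (le_inf f BM)
      rwa [grow e inf_le_left j (inf_le_inf_left _ nB)] at j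
  obtain ⟨P₀, k₀, n₀⟩ : ∃ P, Good P B ∧ ¬ P ≤ M := by
    by_contra! c
    obtain ⟨T, t1, t2⟩ := syl_superset p2 BU pB
    have e := bb _ (.inr nU) U pU' u0' le_rfl T t1.le t1.pi t2
    obtain ⟨V, 𝒱, k⟩ := h.loc pU' u0' t1
    exact nU (k.gen' (e ▸ inf_le_right.trans nB) fun P _ i => c P (e ▸ i))
  by_contra c
  have pl : ∀ P₁ P₂, Good P₁ B → (Glob B ∨ ¬ P₁ ≤ M) → Good P₂ B → (Glob B ∨ ¬ P₂ ≤ M) →
      ∃ W, Pl P₁ B W ∧ P₂ ≤ N[W] := fun P₁ P₂ k₁ i₁ k₂ i₂ => by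
    obtain ⟨D, d1, d2, d3, d4⟩ : ∃ D ≤ B, P₁ ≤ N[D] ∧ P₂ ≤ N[D] ∧ D ≠ ⊥ := by
      by_contra! j
      exact c ⟨P₁, P₂, B, k₁.toPar, k₂.toPar, j, h.ch, bb _ i₁, bb _ i₂⟩
    obtain ⟨T, t1, t2⟩ := syl_superset p2 (k₁.le.trans d2) pB
    have e := bb _ i₁ D (pB.of_le d1) d4 d2 T t1.le t1.pi t2
    obtain ⟨V, 𝒱, k⟩ := h.loc (pB.of_le d1) d4 t1
    obtain ⟨-, W, w1, w2⟩ := k.plane (e ▸ k₁) d2
    exact ⟨W, e ▸ w2, (k.plane (e ▸ k₂) d3).1 W w1⟩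
  obtain ⟨W, hW⟩ : ∃ W, W = sSup {W | ∃ P, Good P B ∧ (Glob B ∨ ¬ P ≤ M) ∧ Pl P B W} := ⟨_, rfl⟩
  have WB : W ≤ B := hW ▸ sSup_le fun W ⟨P, _, _, k⟩ => k.le
  have W0 : W ≠ ⊥ := fun e => by
    obtain ⟨W', k, -⟩ := pl P₀ P₀ k₀ (.inr n₀) k₀ (.inr n₀)
    have l : W' ≤ W := hW ▸ le_sSup ⟨P₀, k₀, .inr n₀, k⟩
    have := k.card
    rw [eq_bot_iff.2 (l.trans e.le), card_bot'] at this; omega
  have nP : ∀ P, Good P B → (Glob B ∨ ¬ P ≤ M) → P ≤ N[W] := fun P k i => hW ▸ norm_sSup fun W ⟨P', k', i', w⟩ => by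
    obtain ⟨W', a, b⟩ := pl P' P k' i' k i
    rwa [w.uniq k' a]
  have nW : N[B] ≤ N[W] := fun g a => mem_N_of_cj_le (cj_le_iff.2 (hW ▸ sSup_le fun W ⟨P, k, i, w⟩ =>
    cj_le_iff.1 (le_sSup ⟨cj g P, cj_of_mem_N a ▸ k.cj g, i.imp_right fun j l => j
      ((cj_le_iff.1 l).trans (cj_of_mem (inv_mem (nB a))).le), cj_of_mem_N a ▸ w.cj g⟩)))
  have nn : ¬ N[W] ≤ M := fun i => n₀ ((nP P₀ k₀ (.inr n₀)).trans i)
  have gl : Glob B := key W (pB.of_le WB) W0 nW nn ▸ g₀.cj m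
  subst hM
  obtain ⟨T, t1, t2⟩ := syl_superset p2 BM pB
  have e := gl T t1.pi t2
  obtain ⟨V, 𝒱, k⟩ := h.loc pU u0 t1
  exact nn (mx W (pB.of_le WB) W0 (k.gen' (e ▸ inf_le_right.trans nW) fun P _ i => nP P (e ▸ i) (.inl gl)))

theorem Hyp.main (h : Hyp G) (ev : Even (Nat.card G)) (hO : O[{2}]((⊤ : Subgroup G)) = ⊥) :
    (∃ K : Subgroup G, IsStronglyEmbedded K) ∨ ∃ P₁ P₂ B : Subgroup G, Am P₁ P₂ B := by
  refine or_iff_not_imp_left.2 fun c => ?_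
  obtain ⟨S, s⟩ := syl_exists p2 (⊤ : Subgroup G)
  obtain ⟨B, pB, b0, hB⟩ := select (𝒯 := fun T : Subgroup G => PiG {2} T) (fun T a => a) (fun T X a l => a.of_le l) s.pi
    (Syl.ne_bot' s p2 (by rw [card_top]; exact ev.two_dvd))
  obtain ⟨S₀, s₀, l⟩ := syl_superset p2 le_top pB
  obtain rfl := (hB S₀ s₀.pi l).symm
  obtain ⟨_, l₀, ⟨U, pU, u0, rfl⟩, mx⟩ := exists_maximal (P := fun M => ∃ U, PiG {2} U ∧ U ≠ ⊥ ∧ M = N[U])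
    ⟨_, pB, b0, rfl⟩
  obtain ⟨P, e⟩ := Syl.exists_sylow (s₀.sub ((normBau (normG S₀)).trans l₀) le_top) p2
  have n := (Inv.s0214 N[U] (fun e => u0 (eq_bot_iff.2 ((le_O le_top e.ge pU).trans hO.le))) P (fun i => b0
    (eq_bot_iff.2 (l.trans (by rw [← e, i, Subgroup.map_bot]))))).2.mt fun i => c ⟨_, i⟩
  simp only [not_forall] at n
  obtain ⟨X, x1, x2, x3⟩ := n
  exact h.am s₀ hB pU u0 rfl l₀ (fun U a b i => (mx _ ⟨U, a, b, rfl⟩ i).le) (s₀.pi.of_le (e ▸ map_mono x1))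
    (by rwa [Ne, map_eq_bot_iff_of_injective _ (subtype_injective _)]) (map_subtype_le _) x3

theorem hyp_mk (hL : IsCharacteristicTwoType G) (hN : ∀ N : Subgroup G, IsTwoLocal N → Group.IsSolvable N)
    (hZ : ∀ S : Sylow 2 G,
      centralizer {z : G | z ∈ (S : Subgroup G) ∧ z ^ 2 = 1 ∧ ∀ s ∈ (S : Subgroup G), s * z = z * s} ≤
        normalizer ((S : Subgroup G) : Set G)) : Hyp G := by
  refine ⟨fun U a b x i => ?_, fun U a b => hN _ ⟨U, a.pg p2, b, rfl⟩, fun S s => ?_⟩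
  · rw [← pCore_map p2] at i ⊢
    exact ⟨⟨x, i.1⟩, hL.2 U (a.pg p2) b (mem_centralizer_iff.2 fun y j =>
      Subtype.ext (mem_C.1 i.2 _ ⟨y, j, rfl⟩)), rfl⟩
  · obtain ⟨S, rfl⟩ := s.exists_sylow_top p2
    exact (centralizer_le fun z i => mem_OmZ.2 ⟨i.1, mem_C.2 i.2.2, i.2.1⟩).trans (hZ S)

end Cfsg.Agent.ZN
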