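import Cfsg.Agent.ZN.Par
/-! The amalgam method for two parabolics of type `S₃`. -/
set_option autoImplicit false
set_option linter.unusedSectionVars false
set_option linter.unusedVariables false

namespace Cfsg.Agent.ZN
open Subgroup Cfsg.Agent.BG MulAction

universe u v
variable {G : Type u} [Group G] [Finite G] {Γ : Type v} [MulAction G Γ] {adj : Γ → Γ → Prop}
  {α β γ δ ε α₁ β₁ β₂ β₃ : Γ} {m n c : ℕ} {D X Y : Subgroup G} {g x y : G}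

local notation:max "𝐆" a:max => stabilizer G a
local notation:max "𝐐" a:max => O[{2}](stabilizer G a)
local notation:max "𝐙" a:max => ZZ (stabilizer G a)
local notation:max "𝐓" a:max b:max => (stabilizer G a ⊓ stabilizer G b)
local notation:max "𝐎" a:max b:max => Ω[2](Z[stabilizer G a ⊓ stabilizer G b])
local notation:max "𝐑" a:max b:max => ⁅ZZ (stabilizer G a), stabilizer G a ⊓ stabilizer G b⁆

inductive Wk (adj : Γ → Γ → Prop) : ℕ → Γ → Γ → Prop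
  | nil (α : Γ) : Wk adj 0 α α
  | cons {α β γ : Γ} {n : ℕ} : adj α β → Wk adj n β γ → Wk adj (n + 1) α γ

theorem Wk.snoc (h : Wk adj n α β) (a : adj β γ) : Wk adj (n + 1) α γ := by
  induction h with
  | nil => exact .cons a (.nil _)
  | cons b _ ih => exact .cons b (ih a)

theorem Wk.zero (h : Wk adj 0 α β) : α = β := by cases h; rfl
theorem Wk.left (h : Wk adj (n + 1) α γ) : ∃ β, adj α β ∧ Wk adj n β γ := by
  cases h with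
  | cons a b => exact ⟨_, a, b⟩
theorem Wk.right (h : Wk adj (n + 1) α γ) : ∃ β, Wk adj n α β ∧ adj β γ := by
  induction n generalizing α with
  | zero => obtain ⟨β, a, b⟩ := h.left; exact ⟨α, .nil _, b.zero ▸ a⟩
  | succ n ih =>
    obtain ⟨β, a, b⟩ := h.left
    obtain ⟨δ, d, e⟩ := ih b
    exact ⟨δ, .cons a d, e⟩
theorem Wk.one (a : adj α β) : Wk adj 1 α β := .cons a (.nil _)
theorem Wk.two (a : adj α β) (b : adj β γ) : Wk adj 2 α γ := .cons a (.one b)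
theorem Wk.of_one (h : Wk adj 1 α β) : adj α β := by obtain ⟨γ, a, b⟩ := h.left; exact b.zero ▸ a

theorem st_smul (g : G) (α : Γ) : 𝐆 (g • α) = cj g (𝐆 α) := stabilizer_smul_eq_stabilizer_map_conj g α
theorem Q_smul (g : G) (α : Γ) : 𝐐 (g • α) = cj g (𝐐 α) := by rw [st_smul, cj_O]
theorem Z_smul (g : G) (α : Γ) : 𝐙 (g • α) = cj g (𝐙 α) := by rw [st_smul, cj_ZZ]
theorem T_smul (g : G) (α β : Γ) : 𝐓 (g • α) (g • β) = cj g (𝐓 α β) := by rw [st_smul, st_smul, cj_inf]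
theorem O_smul (g : G) (α β : Γ) : 𝐎 (g • α) (g • β) = cj g (𝐎 α β) := by rw [T_smul, cj_OmZ]
theorem R_smul (g : G) (α β : Γ) : 𝐑 (g • α) (g • β) = cj g (𝐑 α β) := by rw [T_smul, Z_smul, cj_comm]
theorem Tc (α β : Γ) : 𝐓 α β = 𝐓 β α := inf_comm _ _

omit [Finite G] in
theorem norm_sup_comm (h1 : X ≤ N[D]) (h2 : ⁅Y, X⁆ ≤ D) : X ≤ N[D ⊔ Y] := comm_le_l.1
  (comm_sup_le ((commL h1).trans le_sup_left) (h2.trans le_sup_left) (normsG le_sup_left) (normsG le_sup_right))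

/-- the coset graph -/
structure Gr (G : Type u) [Group G] [MulAction G Γ] (adj : Γ → Γ → Prop) : Prop where
  symm : ∀ {α β}, adj α β → adj β α
  smul : ∀ (g : G) {α β}, adj α β → adj (g • α) (g • β)
  par : ∀ {α β}, adj α β → Par (stabilizer G α) (stabilizer G α ⊓ stabilizer G β)
  nn : ∀ {α β}, adj α β → ∀ D ≤ stabilizer G α ⊓ stabilizer G β, stabilizer G α ≤ N[D] →
    stabilizer G β ≤ N[D] → D = ⊥
  inj : ∀ {α β γ}, adj α β → adj α γ → stabilizer G α ⊓ stabilizer G β = stabilizer G α ⊓ stabilizer G γ → β = γ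
  etr : ∀ {α β γ δ}, adj α β → adj γ δ → ∃ g : G, (g • α = γ ∧ g • β = δ) ∨ (g • α = δ ∧ g • β = γ)
  ex : ∀ α, ∃ β, adj α β

namespace Gr
variable (h : Gr G adj)
include h

theorem wsymm (w : Wk adj n α β) : Wk adj n β α := by
  induction w with
  | nil => exact .nil _
  | cons a _ ih => exact ih.snoc (h.symm a)
theorem par' (a : adj α β) : Par (𝐆 β) (𝐓 α β) := Tc (G := G) β α ▸ h.par (h.symm a)
theorem QG (a : adj α β) : 𝐐 α ≤ 𝐆 β := (h.par a).QT.trans inf_le_right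
theorem QT (a : adj α β) : 𝐐 α ≤ 𝐓 α β := (h.par a).QT
theorem QT' (a : adj α β) : 𝐐 β ≤ 𝐓 α β := (h.par' a).QT
theorem QC (α : Γ) : 𝐐 α ≤ C[𝐙 α] := by obtain ⟨β, a⟩ := h.ex α; exact (h.par a).QC
theorem ZQ (α : Γ) : 𝐙 α ≤ 𝐐 α := by obtain ⟨β, a⟩ := h.ex α; exact (h.par a).ZQ
theorem cent (α : Γ) : 𝐆 α ⊓ C[𝐙 α] ≤ 𝐐 α := by obtain ⟨β, a⟩ := h.ex α; exact (h.par a).cent
theorem ab (α : Γ) : Abelem 2 (𝐙 α) := by obtain ⟨β, a⟩ := h.ex α; exact (h.par a).ab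
theorem nZ (α : Γ) : 𝐆 α ≤ N[𝐙 α] := normZZ (normG _)
theorem sup (a : adj α β) (b : adj α γ) (e : β ≠ γ) (h1 : X ≤ 𝐓 α γ) (h2 : ¬ X ≤ 𝐐 α) : 𝐓 α β ⊔ X = 𝐆 α :=
  (h.par a).sup' (h.par b) (fun i => e (h.inj a b i)) h1 h2
theorem sup' (a : adj α β) (b : adj α γ) (e : β ≠ γ) : 𝐓 α β ⊔ 𝐓 α γ = 𝐆 α := h.sup a b e le_rfl (h.par b).not_le
theorem cbot (a : adj α β) (h1 : D ≤ 𝐓 α β) (h2 : D ≤ C[𝐆 α]) (h3 : D ≤ C[𝐆 β]) : D = ⊥ :=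
  h.nn a D h1 (cents_norm (cent_symm h2)) (cents_norm (cent_symm h3))
theorem not_QQ (a : adj α β) : ¬ 𝐐 β ≤ 𝐐 α := fun i => by
  have e : 𝐐 β = 𝐐 α := eq_of_card_le i (by
    have := card2 (h.par a).idxQ (h.QT a); have := card2 (h.par' a).idxQ (h.QT' a); omega)
  exact (h.par a).Z_ne (eq_bot_iff.2 ((h.ZQ α).trans (h.nn a _ (h.QT a) (O_norm _ _) (e ▸ O_norm _ _)).le))
theorem tr (a : adj α β) (b : adj α γ) : ∃ g ∈ 𝐆 α, g • β = γ := by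
  obtain ⟨g, c, e⟩ := (h.par a).syl.conj p2 (h.par b).syl
  have d : g • α = α := c
  refine ⟨g, c, h.inj (d ▸ h.smul g a) b ?_⟩
  rw [← e, ← T_smul, d]
theorem adj_smul (a : adj α β) (c : g ∈ 𝐆 α) : adj α (g • β) := by
  have d : g • α = α := c
  simpa [d] using h.smul g a
theorem ne_smul (a : adj α β) (b : adj α γ) (e : β ≠ γ) (c : g ∈ 𝐓 α β) (d : g ∉ 𝐐 α) : g • γ ≠ γ := fun i =>
  d ((h.par a).inf_le (h.par b) (fun i => e (h.inj a b i)) ⟨c, c.1, i⟩)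
omit h [Finite G] in
theorem ne_smul' (e : β ≠ γ) (c : g ∈ 𝐆 β) : β ≠ g • γ := fun i => by
  have d : g • β = β := c
  exact e (smul_left_cancel g (d.trans i))
theorem three (a : adj α β) (b : adj α γ) (c : adj α δ) (d : adj α ε) (e1 : β ≠ γ) (e2 : β ≠ δ) (e3 : γ ≠ δ)
    (e4 : β ≠ ε) : ε = γ ∨ ε = δ := by
  have k : (orbit (𝐆 α) β).ncard = 3 := by
    rw [← index_stabilizer, ← (h.par a).idx, inf_relIndex_left]; rfl
  have o : ∀ ζ, adj α ζ → ζ ∈ orbit (𝐆 α) β := fun ζ z => by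
    obtain ⟨g, i, j⟩ := h.tr a z
    exact ⟨⟨g, i⟩, j⟩
  have s : ({β, γ, δ} : Set Γ) = orbit (𝐆 α) β := Set.eq_of_subset_of_ncard_le
    (by rintro ζ (rfl | rfl | rfl); exacts [o _ a, o _ b, o _ c])
    (k.trans (Set.ncard_eq_three.2 ⟨β, γ, δ, e1, e2, e3, rfl⟩).symm).le (Set.finite_of_ncard_ne_zero (by omega))
  rcases (s ▸ o ε d : ε ∈ ({β, γ, δ} : Set Γ)) with i | i | i
  exacts [(e4 i.symm).elim, .inl i, .inr i]
theorem ex_q (a : adj α β) : ∃ g ∈ 𝐓 α β, g ∉ 𝐐 α := SetLike.not_le_iff_exists.1 (h.par a).not_le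
theorem tr2 (a : adj α β) (b : adj α γ) (c : adj α δ) (e1 : β ≠ γ) (e2 : β ≠ δ) : ∃ g ∈ 𝐓 α β, g • γ = δ := by
  obtain ⟨g, i, j⟩ := h.ex_q a
  rcases h.three a b (h.adj_smul b i.1) c e1 (ne_smul' e1 i.2) (h.ne_smul a b e1 i j).symm e2 with e | e
  exacts [⟨1, one_mem _, by rw [one_smul, e]⟩, ⟨g, i, e.symm⟩]
theorem ex_ne (a : adj α β) : ∃ γ, adj α γ ∧ β ≠ γ := by
  obtain ⟨g, i, j⟩ := SetLike.not_le_iff_exists.1 fun e : 𝐆 α ≤ 𝐓 α β => (h.par a).not_norm (normsG e)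
  exact ⟨g • β, h.adj_smul a i, fun e => j ⟨i, e.symm⟩⟩

end Gr

/-- minimality of `b = c + 1` -/
def Mn (G : Type u) [Group G] [MulAction G Γ] (adj : Γ → Γ → Prop) (c : ℕ) : Prop :=
  ∀ n ≤ c, ∀ α β : Γ, Wk adj n α β → ZZ (stabilizer G α) ≤ O[{2}](stabilizer G β)

/-- critical pairs -/
structure Cr (G : Type u) [Group G] [MulAction G Γ] (adj : Γ → Γ → Prop) (c : ℕ) (α α₁ β₁ β : Γ) : Prop where
  a : adj α α₁
  b : adj β β₁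
  w : Wk adj c α₁ β
  v : Wk adj c α β₁
  n : ¬ ZZ (stabilizer G α) ≤ O[{2}](stabilizer G β)

def Nor (G : Type u) [Group G] [MulAction G Γ] (adj : Γ → Γ → Prop) (α : Γ) : Prop :=
  ∀ β γ, adj α β → adj α γ → ZZ (stabilizer G β) ≤ ZZ (stabilizer G α) ⊔ ZZ (stabilizer G γ)

theorem Nor.smul (h : Gr G adj) (k : Nor G adj α) (g : G) : Nor G adj (g • α) := fun β γ a b => by
  have := cj_mono g (k _ _ (by simpa using h.smul g⁻¹ a) (by simpa using h.smul g⁻¹ b))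
  rwa [cj_sup, ← Z_smul, ← Z_smul, ← Z_smul, smul_inv_smul, smul_inv_smul] at this

theorem Nor.norm (h : Gr G adj) (k : Nor G adj α) (a : adj α β) : 𝐆 α ≤ N[𝐙 α ⊔ 𝐙 β] := fun g i =>
  mem_N_of_cj_le (by
    rw [cj_sup, cj_of_mem_N (h.nZ α i), ← Z_smul]; exact sup_le le_sup_left (k _ _ (h.adj_smul a i) a))

theorem Nor.normD (h : Gr G adj) (k : Nor G adj α) (a : adj α β) : 𝐆 α ≤ N[𝐐 α ⊓ 𝐐 β] := by
  have e : 𝐐 α ⊓ 𝐐 β = 𝐐 α ⊓ C[𝐙 α ⊔ 𝐙 β] := le_antisymm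
    (le_inf inf_le_left (centY (inf_le_left.trans (h.QC α)) (inf_le_right.trans (h.QC β))))
    (le_inf inf_le_left ((inf_le_inf (h.QG a) (centS le_sup_right)).trans (h.cent β)))
  exact e ▸ normI (O_norm _ _) (normC (k.norm h a))

namespace Cr
variable (h : Gr G adj) (hm : Mn G adj c) (k : Cr G adj c α α₁ β₁ β)
include h hm k

theorem ZT : 𝐙 β ≤ 𝐓 α α₁ := (hm c le_rfl _ _ (h.wsymm k.w)).trans (h.QT' k.a)
theorem ZT' : 𝐙 α ≤ 𝐓 β β₁ := (hm c le_rfl _ _ k.v).trans (h.QT' k.b)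
theorem symm : Cr G adj c β β₁ α₁ α := ⟨k.b, k.a, h.wsymm k.v, h.wsymm k.w, fun i => k.n
  ((le_inf ((k.ZT' h hm).trans inf_le_left) (cent_symm (i.trans (h.QC α)))).trans (h.cent β))⟩
theorem ZQ : 𝐙 α ⊓ 𝐐 β = 𝐎 α α₁ := le_antisymm
  ((inf_le_inf_left _ (h.QC β)).trans ((h.par k.a).ZC (k.ZT h hm) (k.symm h hm).n))
  (le_inf (h.par k.a).OZ ((le_inf ((h.par k.a).OZ.trans ((k.ZT' h hm).trans inf_le_left))
    ((OmZ_cent 2 _).trans (centS (k.ZT h hm)))).trans (h.cent β)))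
theorem tv : (𝐎 α α₁).relIndex (𝐙 α) = 2 := by
  rw [← k.ZQ h hm, inf_relIndex_left]; exact idx2 (h.par k.b).idxQ (h.par k.b).nQ (k.ZT' h hm) k.n
theorem R : ⁅𝐙 α, 𝐙 β⁆ = 𝐑 α α₁ := (h.par k.a).R_eq (k.ZT h hm) (k.symm h hm).n
theorem RR : 𝐑 α α₁ = 𝐑 β β₁ := by rw [← k.R h hm, commC, (k.symm h hm).R h hm]
theorem RO : 𝐑 α α₁ ≤ 𝐎 α α₁ := (h.par k.a).R_le_Om (k.tv h hm)
theorem RC : 𝐑 α α₁ ≤ C[𝐓 α α₁] := (k.RO h hm).trans (OmZ_cent 2 _)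
theorem sup (a : adj α γ) (e : γ ≠ α₁) : 𝐓 α γ ⊔ 𝐙 β = 𝐆 α := h.sup a k.a e (k.ZT h hm) (k.symm h hm).n
theorem comm (i : X ≤ 𝐐 β₁) : ⁅X, 𝐙 β⁆ ≤ 𝐙 α := by
  rw [commC]
  exact (commS le_rfl (i.trans (h.QT' k.b))).trans ((k.RR h hm).ge.trans (h.par k.a).R_le)

theorem nor (a : adj α γ) (e : γ ≠ α₁) (i : 𝐙 γ ≤ 𝐐 β₁) : Nor G adj α := by
  have n : 𝐆 α ≤ N[𝐙 α ⊔ 𝐙 γ] := (k.sup h hm a e).ge.trans (sup_le
    (normY (inf_le_left.trans (h.nZ α)) (inf_le_right.trans (h.nZ γ)))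
    (norm_sup_comm ((k.ZT h hm).trans (inf_le_left.trans (h.nZ α))) (k.comm h hm i)))
  intro δ ε b d
  obtain ⟨g, g1, rfl⟩ := h.tr a b
  obtain ⟨f, f1, rfl⟩ := h.tr a d
  rw [← cj_of_mem_N (h.nZ α f1), Z_smul, Z_smul, ← cj_sup, cj_of_mem_N (n f1)]
  exact cj_le_of_mem le_sup_right (n g1)

end Cr

namespace Cr
variable (h : Gr G adj) (hm : Mn G adj (c + 1)) (k : Cr G adj (c + 1) α α₁ β₁ β)
include h hm k

theorem not_nor (i : Nor G adj α₁) : False := by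
  obtain ⟨γ, a, w⟩ := k.w.left
  exact k.n ((i _ _ (h.symm k.a) a).trans (sup_le (hm _ le_rfl _ _ k.w) (hm _ (by omega) _ _ w)))

theorem shift (a : adj α γ) (w : Wk adj c α β₂) (b : adj β₂ β₁) (i : ¬ 𝐙 γ ≤ 𝐐 β₁) : Cr G adj (c + 1) γ α β₂ β₁ :=
  ⟨h.symm a, h.symm b, k.v, .cons (h.symm a) w, i⟩

theorem cen (a : adj α γ) (e : γ ≠ α₁) (k' : Cr G adj (c + 1) γ α β₂ β₁) : 𝐑 γ α ≤ C[𝐆 α] := by
  refine le_of_le_of_eq ?_ (congrArg (fun X : Subgroup G => C[X]) (k.sup h hm a e))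
  rw [Tc α γ]
  refine centY (k'.RC h hm) (((k'.RR h hm).le.trans (h.par k'.b).R_le).trans ?_)
  exact (hm 1 (by omega) _ _ (.one (h.symm k.b))).trans (h.QC β)

end Cr

theorem comm_inv {w u : G} (hw : w ^ 2 = 1) (hu : u ^ 2 = 1) :
    (w * (u * w * u⁻¹)) * u * (w * (u * w * u⁻¹))⁻¹ * u⁻¹ = (w * (u * w * u⁻¹)) ^ 2 := by
  have a : u⁻¹ = u := inv_eq_of_mul_eq_one_right (by rw [← pow_two, hu])
  have b : w⁻¹ = w := inv_eq_of_mul_eq_one_right (by rw [← pow_two, hw])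
  have c : ∀ x, u * (u * x) = x := fun x => by rw [← mul_assoc, ← pow_two, hu, one_mul]
  simp only [mul_inv_rev, a, b, pow_two, mul_assoc, c]

/-- all edges are of the same kind, `b = 2` -/
theorem case_two (h : Gr G adj) (hm : Mn G adj 1) (hc : ∀ α β, adj α β → 𝐑 α β ≤ C[𝐆 β]) (a : adj α β)
    (b : adj β γ) (d : adj α ε) (e : β ≠ ε) (n1 : ¬ 𝐙 γ ≤ 𝐐 α) (n2 : ¬ 𝐙 ε ≤ 𝐐 β) : False := by
  obtain ⟨u, u1, u2⟩ := SetLike.not_le_iff_exists.1 n1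
  obtain ⟨w, w1, w2⟩ := SetLike.not_le_iff_exists.1 n2
  have z : ∀ {α β}, adj α β → 𝐙 α ≤ 𝐐 β := fun a => hm 1 le_rfl _ _ (.one a)
  have uT : u ∈ 𝐓 α β := h.QT' a (z (h.symm b) u1)
  have wQ := z (h.symm d) w1
  have wT : w ∈ 𝐓 α β := h.QT a wQ
  have su := (h.ab γ).pow u u1
  have sw := (h.ab ε).pow w w1
  have d' := h.adj_smul d uT.1
  have e1 := h.ne_smul a d e uT u2
  have e2 : β ≠ u • ε := Gr.ne_smul' e uT.2
  have w3 : u * w * u⁻¹ ∈ 𝐙 (u • ε) := Z_smul u ε ▸ mem_cj_conj.2 w1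
  have w4 : u * w * u⁻¹ ∉ 𝐐 β := fun i => w2 ((mem_N.1 (O_norm _ _ uT.2) _).2 i)
  have tQ : w * (u * w * u⁻¹) ∈ 𝐐 β := mul2 (h.par' a).idxQ wT (mul_mem (mul_mem uT wT) (inv_mem uT)) w2 w4
  have tQ' : u * (w * u * w⁻¹) ∈ 𝐐 α := mul2 (h.par a).idxQ uT (mul_mem (mul_mem wT uT) (inv_mem wT)) u2
    fun i => u2 ((mem_N.1 (O_norm _ _ wT.1) _).2 i)
  have t1 : (w * (u * w * u⁻¹)) ^ 2 ∈ C[𝐆 β] := comm_inv sw su ▸ hc _ _ (h.symm b)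
    ((commC _ _).le (comm_mem (h.QT' (h.symm b) tQ) u1))
  have t2 : (u * (w * u * w⁻¹)) ^ 2 ∈ C[𝐆 α] := comm_inv su sw ▸ hc _ _ (h.symm d)
    ((commC _ _).le (comm_mem (h.QT' (h.symm d) tQ') w1))
  have iu : u⁻¹ = u := inv_eq_of_mul_eq_one_right (by rw [← pow_two, su])
  have iw : w⁻¹ = w := inv_eq_of_mul_eq_one_right (by rw [← pow_two, sw])
  have t3 : u * (w * u * w⁻¹) = (w * (u * w * u⁻¹))⁻¹ := by simp only [mul_inv_rev, iu, iw, mul_assoc]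
  rw [t3, inv_pow, inv_mem_iff] at t2
  have t4 : (w * (u * w * u⁻¹)) ^ 2 = 1 := by
    have := h.cbot a (zpowers_le.2 (pow_mem (h.QT' a tQ) 2)) (zpowers_le.2 t2) (zpowers_le.2 t1)
    rwa [zpowers_eq_bot] at this
  have t5 : w * (u * w * u⁻¹) = (u * w * u⁻¹) * w := by
    rw [pow_two] at t4
    refine (inv_eq_of_mul_eq_one_right t4).symm.trans ?_
    simp only [mul_inv_rev, iu, iw, mul_assoc]
  obtain ⟨g, g1, g2⟩ := h.tr2 d a d' e.symm e1.symm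
  have n3 : ¬ 𝐙 (u • ε) ≤ 𝐐 ε := fun i => n2 ((le_inf ((z (h.symm d)).trans (h.QG a)) (cent_symm ?_)).trans (h.cent β))
  · have n4 : w ∉ 𝐐 (u • ε) := fun i => w2 (z a ((h.par' (h.symm d)).OZ ((h.par (h.symm d)).ZC
      ((z (h.symm d')).trans (h.QT' (h.symm d))) n3 ⟨w1, h.QC _ i⟩)))
    exact w4 (z a ((h.par' (h.symm d')).OZ ((h.par (h.symm d')).ZC1 (h.QT' (h.symm d') wQ) n4 w3 t5)))
  · have f : g • ε = ε := g1.2
    rw [← g2, ← f, Z_smul, Q_smul, cj_le_cj] at i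
    exact i.trans (h.QC ε)

namespace Cr
variable (h : Gr G adj) (hm : Mn G adj (c + 1)) (k : Cr G adj (c + 1) α α₁ β₁ β)
include h hm k

theorem no_shift (a : adj α γ) (e : γ ≠ α₁) : 𝐙 γ ≤ 𝐐 β₁ := by
  by_contra i
  obtain ⟨β₂, w, b⟩ := k.v.right
  have k1 := k.shift h hm a w b i
  obtain ⟨δ, d, f⟩ := h.ex_ne (h.symm a)
  have j : ¬ 𝐙 δ ≤ 𝐐 β₂ := fun j => by
    obtain ⟨g, -, rfl⟩ := h.tr a k.a
    exact k.not_nor h hm ((k1.nor h hm d f.symm j).smul h g)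
  obtain ⟨β₃, w', b'⟩ := k1.v.right
  have k2 := k1.shift h hm d w' b' j
  have c1 := k.cen h hm a e k1
  have c2 := k1.cen h hm d f.symm k2
  have hc : ∀ ε ζ, adj ε ζ → 𝐑 ε ζ ≤ C[𝐆 ζ] := fun ε ζ z => by
    obtain ⟨g, ⟨rfl, rfl⟩ | ⟨rfl, rfl⟩⟩ := h.etr (h.symm a) z
    · rw [R_smul, st_smul, cent_cj]; exact c1
    · obtain ⟨y, y1, rfl⟩ := h.tr d (h.symm a)
      have y2 : y • γ = γ := y1
      rw [← y2, R_smul, R_smul, st_smul g, st_smul y γ, cent_cj, cent_cj]; exact c2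
  cases c with
  | zero =>
    have := w.zero
    subst this
    exact case_two h hm hc a d b (by rintro rfl; exact i (h.ZQ _)) j (k1.symm h hm).n
  | succ c =>
    refine (h.par k.a).R_ne (h.cbot b ?_ ?_ ((k.RR h hm).le.trans (hc _ _ k.b)))
    · exact (k.RR h hm).le.trans ((h.par k.b).R_le.trans ((hm 1 (by omega) _ _ (.one k.b)).trans (h.QT' b)))
    · have n : β₁ ≠ β₃ := by
        rintro rfl
        exact i (hm _ (by omega) _ _ w')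
      refine le_of_le_of_eq ?_ (congrArg (fun X : Subgroup G => C[X])
        (h.sup b (h.symm b') n (k2.ZT' h hm) k2.n))
      refine centY (((k.RR h hm).le.trans (hc _ _ k.b)).trans (centS inf_le_right)) ?_
      exact (h.par k.a).R_le.trans ((hm 2 (by omega) _ _ (.two a d)).trans (h.QC δ))

theorem nor' : Nor G adj α := by
  obtain ⟨γ, a, e⟩ := h.ex_ne k.a
  exact k.nor h hm a e.symm (k.no_shift h hm a e.symm)

theorem nor2 (b : adj β₂ β₁) : Nor G adj β₂ := by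
  obtain ⟨g, -, rfl⟩ := h.tr (h.symm k.b) (h.symm b)
  exact ((k.symm h hm).nor' h hm).smul h g

end Cr

theorem norm_of_QQ (h : Gr G adj) (a : adj α β) (n : 𝐆 α ≤ N[𝐐 α ⊓ 𝐐 β]) (h1 : 𝐐 β ≤ X) (h2 : X ⊔ 𝐐 α = 𝐆 α) :
    𝐆 α ≤ N[X] := by
  refine h2.ge.trans (sup_le (normG X) (comm_le_r.1 ?_))
  refine (comm2 ?_ (le_sup_left.trans (h2.le.trans n)) (le_sup_left.trans (h2.le.trans (O_norm _ _)))).trans
    (inf_le_right.trans h1)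
  rw [inf_relIndex_left]
  exact idx2 (h.par' a).idxQ (h.par' a).nQ (h.QT a) (h.not_QQ (h.symm a))

namespace Cr
variable (h : Gr G adj) (hm : Mn G adj (c + 2)) (k : Cr G adj (c + 2) α α₁ β₁ β)
include h hm k

theorem shift2 (a : adj α γ) (e : γ ≠ α₁) (d : adj γ δ) (f : α ≠ δ) (w : Wk adj c α β₃) (b' : adj β₃ β₂)
    (b : adj β₂ β₁) : Cr G adj (c + 2) δ γ β₃ β₂ := by
  have w3 := Wk.cons (h.symm d) (.cons (h.symm a) w)
  refine ⟨h.symm d, h.symm b', .cons (h.symm a) (w.snoc b'), w3, fun i => ?_⟩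
  have i3 := hm _ le_rfl _ _ w3
  have i1 : 𝐙 δ ≤ 𝐐 β₁ := (le_inf (i.trans (h.QG b)) (centSS (centY (i.trans (h.QC _)) (i3.trans (h.QC _))) le_rfl
    (k.nor2 h hm b _ _ b (h.symm b')))).trans (h.cent β₁)
  have zT := k.ZT h hm
  have s : (𝐐 γ ⊔ 𝐙 β) ⊔ 𝐐 α = 𝐆 α := by
    rw [sup_right_comm, (h.par a).supQ (h.QT' a) (h.not_QQ a), k.sup h hm a e]
  have n := norm_of_QQ h a ((k.nor' h hm).normD h a) le_sup_left s
  have l : 𝐐 γ ⊔ 𝐙 β ≤ N[𝐙 α ⊔ 𝐙 δ] := sup_le (normY ((h.QG (h.symm a)).trans (h.nZ α)) ((h.QG d).trans (h.nZ δ)))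
    (norm_sup_comm (zT.trans (inf_le_left.trans (h.nZ α))) (k.comm h hm i1))
  let U := ⨆ ε : {ε // adj γ ε}, 𝐙 ε.1
  have u1 : ∀ ε, adj γ ε → 𝐙 ε ≤ U := fun ε x => le_iSup (fun ε : {ε // adj γ ε} => 𝐙 ε.1) ⟨ε, x⟩
  have u2 : 𝐆 γ ≤ N[U] := fun g x => mem_N_of_cj_le (cj_le_iff.2 (iSup_le fun ε =>
    cj_le_iff.1 (Z_smul g ε.1 ▸ u1 _ (h.adj_smul ε.2 x))))
  have u3 : 𝐐 γ ⊔ 𝐙 β ≤ N[U] := fun g x => mem_N_of_cj_le (cj_le_iff.2 (iSup_le fun ε => cj_le_iff.1 ?_))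
  · refine (h.par a).Z_ne (eq_bot_iff.2 ((u1 _ (h.symm a)).trans (h.nn a U (iSup_le fun ε =>
      (hm 1 (by omega) _ _ (.one (h.symm ε.2))).trans (h.QT' a)) ?_ u2).le))
    exact (k.sup h hm a e).ge.trans (sup_le (inf_le_right.trans u2) (le_sup_right.trans u3))
  by_cases x' : α = ε.1
  · rw [← x', cj_of_mem_N (h.nZ α (s.le (mem_sup_left x)))]; exact u1 _ (h.symm a)
  obtain ⟨q, q1, q2⟩ := h.tr2 (h.symm a) d ε.2 f x'
  have q3 : q • α = α := q1.2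
  have := (norm_cj (g := q)).2 l
  rw [cj_of_mem_N (n q1.2), cj_sup, ← Z_smul, ← Z_smul, q2, q3] at this
  exact (cj_le_of_mem le_sup_right (this x)).trans (sup_le (u1 _ (h.symm a)) (u1 _ ε.2))

theorem big : False := by
  obtain ⟨γ, a, e⟩ := h.ex_ne k.a
  obtain ⟨δ, d, f⟩ := h.ex_ne (h.symm a)
  obtain ⟨q, q1, q2⟩ := h.ex_q (h.symm a)
  obtain ⟨β₂, w, b⟩ := k.v.right
  obtain ⟨β₃, w', b'⟩ := w.right
  have d' := h.adj_smul d q1.1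
  have k1 := k.shift2 h hm a e.symm d f w' b' b
  have k2 := k.shift2 h hm a e.symm d' (Gr.ne_smul' f q1.2) w' b' b
  have c1 : 𝐑 δ γ ≤ C[𝐓 γ δ] := by rw [Tc γ δ]; exact k1.RC h hm
  have c2 : 𝐑 δ γ ≤ C[𝐓 γ (q • δ)] := by rw [Tc γ, k1.RR h hm, ← k2.RR h hm]; exact k2.RC h hm
  have c3 := le_of_le_of_eq (centY c1 c2) (congrArg (fun X : Subgroup G => C[X])
    (h.sup' d d' (h.ne_smul (h.symm a) d f q1 q2).symm))
  refine (h.par k1.a).R_ne (h.cbot a ((h.par k1.a).R_le.trans ((hm 1 (by omega) _ _ (.one k1.a)).trans (h.QT' a)))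
    (le_of_le_of_eq (centY (c3.trans (centS inf_le_right)) ?_) (congrArg (fun X : Subgroup G => C[X])
      (k.sup h hm a e.symm))) c3)
  exact ((k1.RR h hm).le.trans (h.par k1.b).R_le).trans ((hm 2 (by omega) _ _ (.two b (h.symm k.b))).trans (h.QC β))

end Cr

theorem Cr.two (h : Gr G adj) (hm : Mn G adj 1) (k : Cr G adj 1 α α₁ β₁ β) : False := by
  have a := h.symm k.a
  have b := k.w.of_one
  have mk : ∀ γ δ, adj α₁ γ → adj α₁ δ → ¬ 𝐙 γ ≤ 𝐐 δ → Cr G adj 1 γ α₁ α₁ δ := fun γ δ x y z =>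
    ⟨h.symm x, h.symm y, .one y, .one (h.symm x), z⟩
  have k1 := mk _ _ a b k.n
  have e : α ≠ β := by rintro rfl; exact k.n (h.ZQ _)
  obtain ⟨q, q1, q2⟩ := h.ex_q a
  have d := h.adj_smul b q1.1
  have e1 := Gr.ne_smul' e q1.2
  have e2 := h.ne_smul a b e q1 q2
  have k2 : Cr G adj 1 α α₁ α₁ (q • β) := mk _ _ a d fun i => k.n (by
    have q3 : q • α = α := q1.2
    rwa [← q3, Z_smul, Q_smul, cj_le_cj] at i)
  have k3 : Cr G adj 1 (q • β) α₁ α₁ β := mk _ _ d b fun i => k.n (by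
    obtain ⟨g, g1, g2⟩ := h.tr2 b a d e.symm e2.symm
    have g3 : g • β = β := g1.2
    rwa [← g2, ← g3, Z_smul, Q_smul, cj_le_cj] at i)
  have ex : ∀ {γ δ}, Cr G adj 1 γ α₁ α₁ δ → ∃ w ∈ 𝐙 γ, w ∉ 𝐎 γ α₁ := fun k => SetLike.not_le_iff_exists.1 fun i => by
    have := k.tv h hm; rw [relIndex_eq_one.2 i] at this; omega
  obtain ⟨u, u1, u2⟩ := ex (k1.symm h hm)
  obtain ⟨w, w1, w2⟩ := ex k3
  have u3 : u ∉ 𝐐 α := fun i => u2 (((k1.symm h hm).ZQ h hm).le ⟨u1, i⟩)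
  have u4 : u ∉ 𝐐 (q • β) := fun i => u2 (((k3.symm h hm).ZQ h hm).le ⟨u1, i⟩)
  have w3 : w ∉ 𝐐 α := fun i => w2 (((k2.symm h hm).ZQ h hm).le ⟨w1, i⟩)
  have uQ := hm 1 le_rfl _ _ (.one (h.symm b)) u1
  have wQ := hm 1 le_rfl _ _ (.one (h.symm d)) w1
  have su := (h.ab _).pow u u1
  have sw := (h.ab _).pow w w1
  have iu : u⁻¹ = u := inv_eq_of_mul_eq_one_right (by rw [← pow_two, su])
  have iw : w⁻¹ = w := inv_eq_of_mul_eq_one_right (by rw [← pow_two, sw])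
  have s1 : u * w ∈ 𝐐 α ⊓ 𝐐 α₁ := ⟨mul2 (h.par k.a).idxQ (h.QT' k.a uQ) (h.QT' k.a wQ) u3 w3, mul_mem uQ wQ⟩
  have c1 : 𝐑 β α₁ ≤ C[𝐆 α₁] := le_of_le_of_eq (centY (by rw [Tc α₁, ← k1.RR h hm]; exact k1.RC h hm)
    (by rw [Tc α₁]; exact (k1.symm h hm).RC h hm)) (congrArg (fun X : Subgroup G => C[X]) (h.sup' a b e))
  have s2 : (u * w) ^ 2 ∈ C[𝐆 α₁] := by
    have := c1 (((k3.symm h hm).R h hm).le (comm_mem u1 w1))
    rwa [iu, iw, mul_assoc (u * w), ← pow_two] at this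
  have n := (k.nor' h hm).normD h k.a
  have s3 : u ∈ C[Mho 2 (𝐐 α ⊓ 𝐐 α₁)] := le_C1_iff.1 (Mho_le_iff.2 fun s s' => mem_C1.2 (by
    have r := (commC _ _).le (comm_mem (h.QT' (h.symm b) s'.2) u1)
    have r1 := mem_C.1 (c1 r) s (O_le _ _ s'.2)
    have r2 := (h.ab _).pow _ ((h.par (h.symm b)).R_le r)
    generalize hr : s * u * s⁻¹ * u⁻¹ = r at r1 r2
    have r3 : s * u = r * (u * s) := by rw [← hr]; group
    have r4 : u * r = r * u := mem_C.1 (c1 (hr ▸ (commC _ _).le (comm_mem (h.QT' (h.symm b) s'.2) u1))) u (O_le _ _ uQ)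
    calc s ^ 2 * u = s * (r * (u * s)) := by rw [← r3, pow_two, mul_assoc]
      _ = r * (r * (u * s)) * s := by rw [← mul_assoc s, r1, ← r3]; group
      _ = r ^ 2 * (u * s ^ 2) := by simp only [pow_two, mul_assoc]
      _ = u * s ^ 2 := by rw [r2, one_mul]))
  have s4 := (h.par k.a).nsup (K := 𝐆 α ⊓ C[Mho 2 (𝐐 α ⊓ 𝐐 α₁)]) inf_le_left (normI (normG _) (normC (normMho 2 n)))
    ⟨h.QG a uQ, s3⟩ (h.QT' k.a uQ) u3
  have s5 : (u * w) ^ 2 ∈ C[𝐆 α] := by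
    rw [← s4, C_sup]
    exact ⟨cent_symm inf_le_right (pow_mem_Mho s1), centS (h.QG k.a) s2⟩
  have s6 := h.cbot k.a (zpowers_le.2 (pow_mem (h.QT k.a s1.1) 2)) (zpowers_le.2 s5) (zpowers_le.2 s2)
  rw [zpowers_eq_bot, pow_two] at s6
  refine w2 ((h.par (h.symm d)).ZC1 (h.QT' (h.symm d) uQ) u4 w1 ?_)
  rw [← inv_eq_of_mul_eq_one_right s6, mul_inv_rev, iu, iw]

omit [Finite G] in
theorem abelem_of_sq (h : ∀ x ∈ X, x ^ 2 = 1) : Abelem 2 X := ⟨le_C_iff.2 fun a ha b hb => by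
  have i : ∀ x ∈ X, x⁻¹ = x := fun x c => inv_eq_of_mul_eq_one_right (by rw [← pow_two, h x c])
  rw [← i _ (mul_mem ha hb), mul_inv_rev, i a ha, i b hb], h⟩

theorem Cr.zero (h : Gr G adj) (hm : Mn G adj 0) (k : Cr G adj 0 α α₁ β₁ β) :
    Abelem 2 (𝐐 α) ∧ Abelem 2 (𝐐 β) ∧ #(𝐐 α ⊓ 𝐐 β) ≤ 4 := by
  obtain rfl := k.w.zero
  obtain rfl := k.v.zero
  have key : ∀ {α β}, Cr G adj 0 α β α β → 𝐙 α ⊔ 𝐐 α ⊓ 𝐐 β = 𝐐 α ∧ Mho 2 (𝐐 α) = Mho 2 (𝐐 α ⊓ 𝐐 β) := by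
    intro α β k
    have e : 𝐙 α ⊔ 𝐐 α ⊓ 𝐐 β = 𝐐 α := sup2 (by
      rw [inf_relIndex_left]; exact idx2 (h.par' k.a).idxQ (h.par' k.a).nQ (h.QT k.a) (h.not_QQ k.b)) inf_le_left
      (h.ZQ α) fun i => k.n (i.trans inf_le_right)
    refine ⟨e, le_antisymm (Mho_le_iff.2 fun x a => ?_) (Mho_mono inf_le_left)⟩
    obtain ⟨z, z1, d, d1, rfl⟩ := (mem_sup_l (cents_norm (inf_le_left.trans (h.QC α)))).1 (e.ge a)
    rw [Commute.mul_pow (mem_C.1 (h.QC α d1.1) z z1), (h.ab α).pow z z1, one_mul]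
    exact pow_mem_Mho d1
  obtain ⟨e1, m1⟩ := key k
  obtain ⟨e2, m2⟩ := key (k.symm h hm)
  rw [inf_comm] at m2
  have m : Mho 2 (𝐐 α ⊓ 𝐐 α₁) = ⊥ := h.nn k.a _ ((Mho_le _ _).trans (inf_le_left.trans (h.QT k.a)))
    (m1 ▸ normMho 2 (O_norm _ _)) (m2 ▸ normMho 2 (O_norm _ _))
  have a1 : Abelem 2 (𝐐 α) := abelem_of_sq fun x a => (m1.trans m).le (pow_mem_Mho a)
  have a2 : Abelem 2 (𝐐 α₁) := abelem_of_sq fun x a => (m2.trans m).le (pow_mem_Mho a)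
  refine ⟨a1, a2, ?_⟩
  have key2 : ∀ {α β}, Cr G adj 0 α β α β → Abelem 2 (𝐐 α) → Abelem 2 (𝐐 β) → 𝐙 α ⊔ 𝐐 α ⊓ 𝐐 β = 𝐐 α →
      C[𝐆 α].relIndex (𝐐 α ⊓ 𝐐 β) ≤ 2 := by
    intro α β k a1 a2 e
    have o : 𝐐 α ⊓ 𝐐 β ≤ 𝐎 α β := le_OmZ (inf_le_left.trans (h.QT k.a)) (by
      rw [← (h.par k.a).supQ (h.QT' k.a) (h.not_QQ k.a)]
      exact centY (inf_le_right.trans a2.abel) (inf_le_left.trans a1.abel)) (a1.of_le inf_le_left)
    obtain ⟨γ, a, f⟩ := h.ex_ne k.a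
    obtain ⟨g, g1, rfl⟩ := h.tr k.a a
    have g2 : g • α = α := g1
    have t := k.tv h hm
    rw [← relIndex_cj g, ← O_smul, ← Z_smul, g2] at t
    have l := o.trans (h.par k.a).OZ
    refine le_trans ?_ ((relIndex_le_of_le_right l (relIndex_pos _ _).ne').trans t.le)
    rw [← inf_relIndex_right (𝐎 α (g • β))]
    refine relIndex_le_of_le_left (le_of_le_of_eq (centY (inf_le_right.trans (o.trans (OmZ_cent 2 _)))
      (inf_le_left.trans (OmZ_cent 2 _))) (congrArg (fun X : Subgroup G => C[X]) (h.sup' k.a a f))) (relIndex_pos _ _).ne'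
  have i1 := key2 k a1 a2 e1
  have i2 := key2 (k.symm h hm) a2 a1 e2
  rw [inf_comm] at i2
  have b := h.cbot k.a (D := C[𝐆 α₁] ⊓ (C[𝐆 α] ⊓ (𝐐 α ⊓ 𝐐 α₁))) (inf_le_right.trans (inf_le_right.trans
    (inf_le_left.trans (h.QT k.a)))) (inf_le_right.trans inf_le_left) inf_le_left
  have j := (relIndex_le_of_le_right (inf_le_right (a := C[𝐆 α])) (relIndex_pos _ _).ne').trans i2
  rw [← card_inf_mul_relIndex C[𝐆 α], ← card_inf_mul_relIndex C[𝐆 α₁], b, card_bot', one_mul]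
  exact Nat.mul_le_mul j i1

theorem Gr.main (h : Gr G adj) (a : adj α β) : Abelem 2 (𝐐 α) ∧ Abelem 2 (𝐐 β) ∧ #(𝐐 α ⊓ 𝐐 β) ≤ 4 := by
  classical
  have sm : ∀ (g : G) {n γ δ}, Wk adj n γ δ → Wk adj n (g • γ) (g • δ) := fun g n γ δ w => by
    induction w with
    | nil => exact .nil _
    | cons a _ ih => exact .cons (h.smul g a) ih
  have ex : ∃ n, ∃ γ δ, Wk adj n γ δ ∧ ¬ 𝐙 γ ≤ 𝐐 δ := by
    by_contra! c
    let U := ⨆ ε : {ε // ∃ n, Wk adj n ε α}, 𝐙 ε.1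
    have u1 : ∀ ε n, Wk adj n ε α → 𝐙 ε ≤ U := fun ε n x =>
      le_iSup (fun ε : {ε // ∃ n, Wk adj n ε α} => 𝐙 ε.1) ⟨ε, n, x⟩
    refine (h.par a).Z_ne (eq_bot_iff.2 ((u1 _ _ (.nil α)).trans (h.nn a U (iSup_le fun ⟨ε, n, x⟩ =>
      (c _ _ _ x).trans (h.QT a)) (fun g x => ?_) fun g x => ?_).le)) <;>
    refine mem_N_of_cj_le (cj_le_iff.2 (iSup_le fun ⟨ε, n, y⟩ => cj_le_iff.1 ?_)) <;> rw [← Z_smul]
    · exact u1 _ n (by have := sm g y; rwa [show g • α = α from x] at this)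
    · exact u1 _ _ (Wk.snoc (by have := sm g (y.snoc a); rwa [show g • β = β from x] at this) (h.symm a))
  obtain ⟨γ, δ, w, n⟩ := Nat.find_spec ex
  have mn := fun m => Nat.find_min ex (m := m)
  generalize Nat.find ex = b at w mn
  cases b with
  | zero => exact (n (w.zero ▸ h.ZQ γ)).elim
  | succ c =>
    have hm : Mn G adj c := fun m i γ δ w => by_contra fun j => mn m (by omega) ⟨γ, δ, w, j⟩
    obtain ⟨γ₁, a1, w1⟩ := w.left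
    obtain ⟨δ₁, w2, a2⟩ := w.right
    have k : Cr G adj c γ γ₁ δ₁ δ := ⟨a1, h.symm a2, w1, w2, n⟩
    match c, hm, k with
    | 0, hm, k =>
      obtain ⟨i1, i2, i3⟩ := k.zero h hm
      obtain rfl := k.w.zero
      obtain ⟨g, ⟨rfl, rfl⟩ | ⟨rfl, rfl⟩⟩ := h.etr k.a a <;> rw [Q_smul, Q_smul, ← cj_inf, card_cj]
      exacts [⟨i1.cj g, i2.cj g, i3⟩, ⟨i2.cj g, i1.cj g, inf_comm (𝐐 γ) _ ▸ i3⟩]
    | 1, hm, k => exact (k.two h hm).elim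
    | c + 2, hm, k => exact (k.big h hm).elim

/-- the amalgam theorem -/
theorem amalgam {P₁ P₂ T : Subgroup G} (h1 : Par P₁ T) (h2 : Par P₂ T)
    (nn : ∀ D ≤ T, P₁ ≤ N[D] → P₂ ≤ N[D] → D = ⊥) :
    Abelem 2 O[{2}](P₁) ∧ Abelem 2 O[{2}](P₂) ∧ #(O[{2}](P₁) ⊓ O[{2}](P₂)) ≤ 4 := by
  have e : P₁ ⊓ P₂ = T := (h1.max (le_inf h1.le h2.le) inf_le_left).resolve_right fun e => by
    have i : P₁ = P₂ := (h2.max h1.le (e.ge.trans inf_le_right)).resolve_left fun i => h1.not_norm (i ▸ normG _)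
    exact h1.Z_ne (nn _ h1.ZT h1.nZ (i ▸ h1.nZ))
  let a : (G ⧸ P₁) ⊕ (G ⧸ P₂) := .inl ((1 : G) : G ⧸ P₁)
  let b : (G ⧸ P₁) ⊕ (G ⧸ P₂) := .inr ((1 : G) : G ⧸ P₂)
  have ea : stabilizer G a = P₁ := by
    ext g; simp [a, mem_stabilizer_iff, QuotientGroup.eq]
  have eb : stabilizer G b = P₂ := by
    ext g; simp [b, mem_stabilizer_iff, QuotientGroup.eq]
  have ne : ∀ g f : G, g • a ≠ f • b := fun g f => by simp [a, b]
  let adj := fun α β => ∃ g : G, (α = g • a ∧ β = g • b) ∨ (α = g • b ∧ β = g • a)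
  have inj : ∀ {a b : (G ⧸ P₁) ⊕ (G ⧸ P₂)}, Par (𝐆 a) (𝐓 a b) → ∀ g f : G, g • a = f • a →
      𝐓 (g • a) (g • b) = 𝐓 (g • a) (f • b) → g • b = f • b := fun {a b} p g f i j => by
    have i' : f⁻¹ * g ∈ 𝐆 a := by rw [mem_stabilizer_iff, mul_smul, i, inv_smul_smul]
    rw [T_smul, i, T_smul, ← cj_eq_cj (g := f⁻¹), cj_inv_cj, ← cj_mul] at j
    have : f⁻¹ * g ∈ 𝐆 b := (p.normT ⟨i', mem_N_iff_cj.2 j⟩).2
    rw [mem_stabilizer_iff, mul_smul, inv_smul_eq_iff] at this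
    exact this
  have pa : Par (𝐆 a) (𝐓 a b) := by rw [ea, eb, e]; exact h1
  have pb : Par (𝐆 b) (𝐓 b a) := by rw [ea, eb, inf_comm, e]; exact h2
  have h : Gr G adj := by
    refine ⟨?_, ?_, ?_, ?_, ?_, ?_, ?_⟩
    · rintro α β ⟨g, i | i⟩
      exacts [⟨g, .inr i.symm⟩, ⟨g, .inl i.symm⟩]
    · rintro f α β ⟨g, ⟨rfl, rfl⟩ | ⟨rfl, rfl⟩⟩
      exacts [⟨f * g, .inl ⟨smul_smul _ _ _, smul_smul _ _ _⟩⟩, ⟨f * g, .inr ⟨smul_smul _ _ _, smul_smul _ _ _⟩⟩]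
    · rintro α β ⟨g, ⟨rfl, rfl⟩ | ⟨rfl, rfl⟩⟩ <;> rw [T_smul, st_smul]
      exacts [pa.cj g, pb.cj g]
    · rintro α β ⟨g, ⟨rfl, rfl⟩ | ⟨rfl, rfl⟩⟩ D <;> rw [T_smul, st_smul, st_smul, ea, eb, ← cj_cj_inv g D,
        cj_le_cj, norm_cj, norm_cj, cj_eq_bot]
      · rw [e]; exact nn _
      · rw [inf_comm, e]; exact fun i j k => nn _ i k j
    · rintro α β γ ⟨g, ⟨rfl, rfl⟩ | ⟨rfl, rfl⟩⟩ ⟨f, ⟨i, rfl⟩ | ⟨i, rfl⟩⟩
      exacts [inj pa g f i, (ne _ _ i).elim, (ne _ _ i.symm).elim, inj pb g f i]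
    · rintro α β γ δ ⟨g, ⟨rfl, rfl⟩ | ⟨rfl, rfl⟩⟩ ⟨f, ⟨rfl, rfl⟩ | ⟨rfl, rfl⟩⟩ <;> refine ⟨f * g⁻¹, ?_⟩ <;>
        simp [mul_smul]
    · rintro (α | α) <;> obtain ⟨g, rfl⟩ := QuotientGroup.mk_surjective α
      · exact ⟨g • b, g, .inl ⟨by simp [a], rfl⟩⟩
      · exact ⟨g • a, g, .inr ⟨by simp [b], rfl⟩⟩
  have := h.main (α := a) (β := b) ⟨1, .inl ⟨(one_smul _ _).symm, (one_smul _ _).symm⟩⟩
  rwa [ea, eb] at this

end Cfsg.Agent.ZN
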