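import Cfsg.Agent.ZN.FFS
/-! The Baumann subgroup and the parabolics over it. -/
set_option autoImplicit false
set_option linter.unusedSectionVars false
set_option linter.unusedVariables false

namespace Cfsg.Agent.ZN
open Subgroup Cfsg.Agent.BG Cfsg.Agent.Fac
open Cfsg.Agent.PLoc (JOf maxEA ZJOf)

universe u
variable {G : Type u} [Group G] [Finite G] {A B D K L M N P Q S T U V W W' X Y : Subgroup G} {g x y t l w : G}
  {𝒱 : Set (Subgroup G)}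

instance fact2 : Fact (Nat.Prime 2) := ⟨Nat.prime_two⟩

/-- the Baumann subgroup -/
def Bau (T : Subgroup G) : Subgroup G := T ⊓ C[ZJOf 2 T]

theorem Bau_le (T : Subgroup G) : Bau T ≤ T := inf_le_left
theorem J_le_Bau (T : Subgroup G) : JOf 2 T ≤ Bau T := le_inf (PLoc.JOf_le T) (cent_symm (PLoc.ZJOf_le_centralizer T))
theorem cj_J (g : G) (T : Subgroup G) : cj g (JOf 2 T) = JOf 2 (cj g T) := PLoc.cj_JOf g T
theorem cj_Bau (g : G) (T : Subgroup G) : cj g (Bau T) = Bau (cj g T) := by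
  rw [Bau, cj_inf, cj_C]; exact congrArg (fun X : Subgroup G => cj g T ⊓ C[X]) (PLoc.cj_ZJOf g T)
theorem normBau (h : X ≤ N[T]) : X ≤ N[Bau T] := norm_fun Bau cj_Bau h
theorem J_Bau (T : Subgroup G) : JOf 2 (Bau T) = JOf 2 T := PLoc.JOf_eq_of_le (J_le_Bau T) (Bau_le T)
theorem ZJ_Bau (T : Subgroup G) : ZJOf 2 (Bau T) = ZJOf 2 T := PLoc.ZJOf_eq_of_le (J_le_Bau T) (Bau_le T)
theorem Bau_Bau (T : Subgroup G) : Bau (Bau T) = Bau T := by
  rw [Bau, ZJ_Bau]; exact inf_eq_left.2 inf_le_right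
theorem Bau_ne (h : PiG {2} T) (h1 : T ≠ ⊥) : Bau T ≠ ⊥ := fun e =>
  PLoc.JOf_ne_bot (h.pg p2) h1 dvd_rfl (eq_bot_iff.2 ((J_le_Bau T).trans e.le))

omit [Finite G] in
theorem sep (h : W ⊓ W' = ⊥) (n : g ∈ N[W]) (n' : g ∈ N[W']) (hw : x ∈ W) (hw' : y ∈ W') (c : g * (x * y) = x * y * g) :
    g * x = x * g := by
  have e : x⁻¹ * (g * x * g⁻¹) = y * (g * y * g⁻¹)⁻¹ := by
    rw [inv_mul_eq_iff_eq_mul, ← mul_assoc, eq_mul_inv_iff_mul_eq]
    calc g * x * g⁻¹ * (g * y * g⁻¹) = g * (x * y) * g⁻¹ := by group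
      _ = x * y := by rw [c]; group
  have : x⁻¹ * (g * x * g⁻¹) = 1 := mem_bot.1 (h.le (mem_inf.2 ⟨mul_mem (inv_mem hw) (conj_mem n hw),
    e ▸ mul_mem hw' (inv_mem (conj_mem n' hw'))⟩))
  rw [inv_mul_eq_one, eq_mul_inv_iff_mul_eq] at this
  exact this.symm

theorem line_idx (h : #W = 4) (h1 : L ≤ W) (h2 : #L = 2) : L.relIndex W = 2 := by
  have := card_mul_relIndex h1; rw [h, h2] at this; omega

theorem mem_two (h : #L = 2) (h1 : l ∈ L) (h2 : l ≠ 1) (h3 : x ∈ L) : x = 1 ∨ x = l := by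
  rw [← eq_zpowers_of_prime (h ▸ p2) h1 h2] at h3
  obtain ⟨k, rfl⟩ := h3
  have e : l ^ (2 : ℤ) = 1 := by exact_mod_cast pow_eq_one_of_card h h1
  rcases Int.even_or_odd' k with ⟨k, rfl | rfl⟩ <;> simp [zpow_add, zpow_mul, e]

theorem four (hW : Abelem 2 W) (h : #W = 4) (h1 : l ∈ W) (h2 : l ≠ 1) (h3 : w ∈ W) (h4 : w ≠ 1) (h5 : w ≠ l)
    (hx : x ∈ W) : x = 1 ∨ x = l ∨ x = w ∨ x = l * w := by
  have c := card_zpowers_of_pow p2 (hW.pow l h1) h2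
  have i : w⁻¹ = w := inv_eq_of_mul_eq_one_right (by rw [← pow_two, hW.pow w h3])
  by_cases e : x ∈ zpowers l
  · exact (mem_two c (mem_zpowers l) h2 e).imp_right .inl
  have := mul2 (line_idx h (zpowers_le.2 h1) c) hx h3 e fun j => (mem_two c (mem_zpowers l) h2 j).elim h4 h5
  rcases mem_two c (mem_zpowers l) h2 this with j | j
  · exact .inr (.inr (.inl (by rw [mul_eq_one_iff_eq_inv.1 j, i])))
  · exact .inr (.inr (.inr (by rw [← j, mul_assoc, ← pow_two, hW.pow w h3, mul_one])))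

theorem four_C (hW : Abelem 2 W) (h : #W = 4) (h1 : l ∈ W) (h2 : l ≠ 1) (h3 : w ∈ W) (h4 : w ≠ 1) (h5 : w ≠ l)
    (c1 : g * l * g⁻¹ = l) (c2 : g * w * g⁻¹ = w) : g ∈ C[W] := mem_C.2 fun x hx => by
  have d1 : l * g = g * l := (mul_inv_eq_iff_eq_mul.1 c1).symm
  have d2 : w * g = g * w := (mul_inv_eq_iff_eq_mul.1 c2).symm
  rcases four hW h h1 h2 h3 h4 h5 hx with rfl | rfl | rfl | rfl
  exacts [by simp, d1, d2, by rw [mul_assoc, d2, ← mul_assoc, d1, mul_assoc]]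

theorem four_cj (hW : Abelem 2 W) (h : #W = 4) (h1 : l ∈ W) (h2 : l ≠ 1) (h3 : w ∈ W) (h4 : w ≠ 1) (h5 : w ≠ l)
    (n : g ∈ N[W]) (c1 : g * l * g⁻¹ = l) (c2 : g ∉ C[W]) : g * w * g⁻¹ = l * w := by
  rcases four hW h h1 h2 h3 h4 h5 (conj_mem n h3) with e | e | e | e
  · exact (h4 (by simpa using e)).elim
  · rw [← c1] at e; exact (h5 (by simpa using e)).elim
  · exact (c2 (four_C hW h h1 h2 h3 h4 h5 c1 e)).elim
  · exact e

/-- parabolics in which `J(B)` is not normal -/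
structure Good (P B : Subgroup G) : Prop extends Par P B where
  nJ : ¬ JOf 2 B ≤ O[{2}](P)

/-- the plane of a parabolic -/
structure Pl (P B W : Subgroup G) : Prop where
  card : #W = 4
  ab : Abelem 2 W
  le : W ≤ B
  norm : P ≤ N[W]
  nn : ¬ P ≤ N[W ⊓ C[B]]

theorem Good.cj (h : Good P B) (g : G) : Good (cj g P) (cj g B) :=
  ⟨h.toPar.cj g, by rw [← cj_O, ← cj_J, cj_le_cj]; exact h.nJ⟩

theorem Pl.cj (h : Pl P B W) (g : G) : Pl (cj g P) (cj g B) (cj g W) :=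
  ⟨by rw [card_cj, h.card], h.ab.cj g, cj_mono g h.le, norm_cj.2 h.norm, by
    rw [← cj_C, ← cj_inf, norm_cj]; exact h.nn⟩

theorem Good.tv (h : Good P B) : Ω[2](Z[B]).relIndex (ZZ P) = 2 := by
  obtain ⟨A, a, n⟩ : ∃ A ∈ maxEA 2 B, ¬ A ≤ O[{2}](P) := by
    by_contra! c; exact h.nJ (PLoc.JOf_le_iff.2 c)
  have b := abelem_iff.2 a.2.1
  have i := idx2 h.idxQ h.nQ a.1 n
  have c : O[{2}](P) ⊓ A ≤ C[ZZ P] := inf_le_left.trans h.QC
  have k := (isProd_r (cents_norm c)).card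
  have m := a.2.2 _ (sup_le (inf_le_right.trans a.1) h.ZT) (abelem_iff.1 ((b.of_le inf_le_right).sup h.ab c))
  have j := card_inf_mul_relIndex O[{2}](P) A
  have o := card_inf_mul_relIndex Ω[2](Z[B]) (ZZ P)
  have l : #(O[{2}](P) ⊓ A ⊓ ZZ P) ≤ #(Ω[2](Z[B]) ⊓ ZZ P) := card_le (le_inf (le_trans (le_inf inf_le_right
    (inf_le_left.trans (inf_le_right.trans b.abel))) (h.ZC a.1 n)) inf_le_right)
  have p : Ω[2](Z[B]).relIndex (ZZ P) ≠ 1 := fun e => h.R_ne (comm_eq_bot.2 ((relIndex_eq_one.1 e).trans (OmZ_cent 2 B)))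
  have q := relIndex_pos Ω[2](Z[B]) (ZZ P)
  have r := card_pos (O[{2}](P) ⊓ A)
  have s := card_pos (Ω[2](Z[B]) ⊓ ZZ P)
  rw [i] at j
  rw [← j] at m
  rw [← o] at k
  generalize Ω[2](Z[B]).relIndex (ZZ P) = n at *
  by_contra
  have : 3 ≤ n := by omega
  nlinarith [Nat.mul_le_mul m l, Nat.mul_le_mul_left (#(O[{2}](P) ⊓ A) * #(Ω[2](Z[B]) ⊓ ZZ P)) this, mul_pos r s]

theorem Pl.line (h : Par P B) (k : Pl P B W) : #(W ⊓ C[B]) = 2 :=
  card_sub_of_sq p2 k.card (inf_lt_left.2 fun i => k.nn (by rw [inf_eq_left.2 i]; exact k.norm))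
    ((k.ab.pig p2).meet_C h.pig (h.le.trans k.norm) fun e => by have := k.card; rw [e, card_bot'] at this; omega)

theorem Pl.le_ZZ (h : Par P B) (k : Pl P B W) : W ≤ ZZ P := by
  obtain ⟨g, a, b⟩ := SetLike.not_le_iff_exists.1 k.nn
  have l := (le_OmZ (inf_le_left.trans k.le) inf_le_right (k.ab.of_le (inf_le_left (b := C[B])))).trans h.OZ
  exact (line_sup (p := 2) k.card inf_le_left (k.line h) (k.norm a) b).trans (sup_le l (cj_le_of_mem l (h.nZ a)))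

theorem Pl.uniq (h : Good P B) (k : Pl P B W) (k' : Pl P B W') : W = W' := by
  by_contra e
  have d : W ⊓ W' = ⊥ := by_contra fun d => by
    have c := card_sub_of_sq p2 k.card (inf_lt_left.2 fun i => e (eq_of_card_le i (k'.card.trans k.card.symm).le)) d
    have n := normI k.norm k'.norm
    exact k.nn (eq_of_card_le (le_inf inf_le_left (cent_symm (h.pig.cent_of_prime p2 c (h.le.trans n))))
      ((k.line h.toPar).trans c.symm).le ▸ n)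
  have ex : ∀ {W}, Pl P B W → ∃ w ∈ W, w ∉ C[B] := fun k => SetLike.not_le_iff_exists.1 fun i =>
    k.nn (by rw [inf_eq_left.2 i]; exact k.norm)
  obtain ⟨w, a, b⟩ := ex k
  obtain ⟨w', a', b'⟩ := ex k'
  have := OmZ_cent 2 B (mul2 h.tv (k.le_ZZ h.toPar a) (k'.le_ZZ h.toPar a') (fun i => b (OmZ_cent 2 B i))
    fun i => b' (OmZ_cent 2 B i))
  exact b (mem_C.2 fun g i => sep d (k.norm (h.le i)) (k'.norm (h.le i)) a a' (mem_C.1 this g i))

/-- a solvable local subgroup of characteristic `2` -/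
structure Loc (N T : Subgroup G) : Prop where
  syl : Syl 2 T N
  sol : Sol N
  ch : N ⊓ C[O[{2}](N)] ≤ O[{2}](N)
  z : N ⊓ C[Ω[2](Z[T])] ≤ N[T]

structure LP (N T V : Subgroup G) (𝒱 : Set (Subgroup G)) : Prop extends Loc N T, FFS 2 N T ⊥ V 𝒱 where
  vQ : V ≤ Ω[2](Z[O[{2}](N)])
  nV : N ≤ N[V]
  oV : Ω[2](Z[T]) ≤ V
  cn : JOf 2 N ⊓ C[sSup 𝒱] ≤ C[V]

theorem Loc.ex (h : Loc N T) : ∃ V 𝒱, LP N T V 𝒱 := by
  have hP := h.syl.O_le
  have nP := O_norm {2} N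
  have zP : Ω[2](Z[T]) ≤ O[{2}](N) :=
    (le_inf ((OmZ_le 2 T).trans h.syl.le) ((OmZ_cent 2 T).trans (centS hP))).trans h.ch
  obtain ⟨𝒱, a, b, -⟩ := exists_ffs2 (π := ∅) (B := ⊥) h.syl ((OmZ_abelem 2 _).of_le (VZ_le hP nP zP))
    ((VZ_le hP nP zP).trans ((OmZ_le 2 _).trans hP)) VZ_norm h.sol
    (fun D d1 d2 d3 => cent_symm (iSup_le fun k => by
      rw [← cj_of_mem_N (d2 k.2), cent_cj]
      refine cent_symm (((h.syl.inf_norm' d1 d2).prod_idx inf_le_right (by rwa [inf_relIndex_right])).sup.ge.trans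
        (sup_le (inf_le_left.trans (cent_symm (OmZ_cent 2 T))) (inf_le_left.trans (centS le_VZ))))))
    bot_le bot_le (pig_bot _) (Set.compl_empty ▸ pin_univ _) sol_bot
  exact ⟨_, 𝒱, h, a, VZ_le hP nP zP, VZ_norm, le_VZ, b.trans inf_le_right⟩

namespace LP
variable (h : LP N T V 𝒱)
include h

theorem ab : Abelem 2 V := (OmZ_abelem 2 _).of_le h.vQ
theorem VQ : V ≤ O[{2}](N) := h.vQ.trans (OmZ_le 2 _)
theorem VT : V ≤ T := h.VQ.trans h.syl.O_le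
theorem QC : O[{2}](N) ≤ C[V] := cent_symm (h.vQ.trans (OmZ_cent 2 _))
theorem CV : N ⊓ C[V] ≤ N[T] := (inf_le_inf_left _ (centS h.oV)).trans h.z
theorem TV : T ⊓ C[V] ≤ O[{2}](N) := by
  have a : N ≤ N[N ⊓ C[V]] := normI (normG N) (normC h.nV)
  have s := h.syl.inf_norm' inf_le_left a
  rw [← inf_assoc, inf_eq_left.2 h.syl.le] at s
  exact le_O (inf_le_left.trans h.syl.le) (s.norm_char (normI h.CV (inf_le_left.trans (normC h.nV))) a) s.pi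
theorem memT (h1 : x ∈ N) (h2 : x ∈ N[T]) (h3 : PiE {2} x) : x ∈ T :=
  h.syl.le_of_norm (pig_zpowers.2 h3) (zpowers_le.2 h1) (zpowers_le.2 h2) (mem_zpowers x)
theorem sV : sSup 𝒱 ≤ V := sSup_le h.le
theorem JJ : JOf 2 T ≤ JOf 2 N := JOf_mono h.syl
theorem VB : V ≤ Bau T := by
  obtain ⟨A₀, a₀⟩ := PLoc.maxEA_nonempty (e := 2) T
  obtain ⟨A₁, a₁, -, a₂⟩ := replace (h.ab.of_le h.sV) (h.sV.trans h.VT) (fun W w => ⟨h.card W w, .inl rfl⟩)
    (fun W w => h.JJ.trans (h.nJ W w)) a₀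
  exact le_inf h.VT (cent_symm ((PLoc.ZJOf_le_of_mem a₁).trans
    ((le_inf ((PLoc.le_JOf a₁).trans h.JJ) a₂).trans h.cn)))
theorem lnB (w : W ∈ 𝒱) : W ⊓ C[Bau T] = W ⊓ C[JOf 2 T] := le_antisymm (inf_le_inf_left _ (centS (J_le_Bau T)))
  (le_inf inf_le_left (cent_symm (inf_le_right.trans (centS fun x a =>
    PLoc.mem_ZJOf (h.VT (h.le W w a.1)) (h.ab.pow x (h.le W w a.1)) a.2))))
theorem ln2 (w : W ∈ 𝒱) : #(W ⊓ C[Bau T]) = 2 := by rw [h.lnB w, h.ln W w]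
theorem BW (w : W ∈ 𝒱) : Bau T ≤ N[W] := fun t a => mem_N_iff_cj.2 (by_contra fun e => ne_bot_of_prime (h.ln2 w ▸ p2)
  (eq_bot_iff.2 ((le_inf inf_le_left (((cj_of_mem_C (cent_symm inf_le_right a)).ge.trans (cj_mono t inf_le_left)).trans
    (le_Oth (h.perm t ⟨normG N (h.syl.le a.1), h.nV (h.syl.le a.1)⟩ W w) e))).trans (h.ind W w).le)))
theorem nOth (h1 : ∀ W ∈ 𝒱, X ≤ N[W]) (W : Subgroup G) : X ≤ N[Oth 𝒱 W] := norm_sSup fun U a => h1 U a.1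
theorem sup_le (W : Subgroup G) : sSup 𝒱 ≤ W ⊔ Oth 𝒱 W := sSup_le fun U a => by
  by_cases e : U = W
  exacts [e.le.trans le_sup_left, (le_Oth a e).trans le_sup_right]

theorem plane (k : Good P (Bau T)) (h1 : P ≤ N) : (∀ W ∈ 𝒱, P ≤ N[W]) ∧ ∃ W ∈ 𝒱, Pl P (Bau T) W := by
  obtain ⟨x, x1, x2⟩ := SetLike.not_le_iff_exists.1 k.nJ
  rw [J_Bau] at x1
  have n : P ≤ N[P ⊓ JOf 2 N] := normI (normG P) (h1.trans (PLoc.le_normalizer_JOf N))
  have s := k.nsup inf_le_left n ⟨k.le (J_le_Bau T x1), h.JJ x1⟩ (J_le_Bau T x1) x2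
  have a : ∀ W ∈ 𝒱, P ≤ N[W] := fun W w => s.ge.trans
    (_root_.sup_le (inf_le_right.trans (h.nJ W w)) (k.QT.trans (h.BW w)))
  refine ⟨a, by_contra fun c => ?_⟩
  obtain ⟨y, y1, y2⟩ := cauchy Nat.prime_three (show 3 ∣ #P from ⟨2 * #O[{2}](P), by rw [k.card]; ring⟩)
  have y3 : PiG {2}ᶜ (zpowers y) := pig_of_card Nat.prime_three (by rw [card_zpowers', y2]) (by simp)
  have y4 : zpowers y ≤ P ⊓ JOf 2 N := y3.le_of_idx n (zpowers_le.2 y1) (by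
    rw [compl_compl, (isProd_of_l ((O_le _ _).trans n) s).relIndex]; exact (O_pig _ _).relIndex _)
  have y5 : zpowers y ≤ C[sSup 𝒱] := cent_symm (sSup_le fun W w => by
    have m : P ≤ N[W ⊓ C[Bau T]] := by_contra fun i =>
      c ⟨W, w, h.card W w, h.ab.of_le (h.le W w), (h.le W w).trans h.VB, a W w, i⟩
    have m' := (zpowers_le.2 y1).trans m
    refine cop_stable (L := W ⊓ C[Bau T]) (by rw [card_zpowers', y2, h.ln2 w]; decide) (comm2 (line_idx (h.card W w)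
      inf_le_left (h.ln2 w)) m' ((zpowers_le.2 y1).trans (a W w))) (cent_symm (relIndex_eq_one.1 ?_))
    simpa using idx_cent_prime p2 (h.ln2 w) m')
  have y6 := (le_inf (zpowers_le.2 y1) (normBau ((le_inf ((zpowers_le.2 y1).trans h1)
    ((le_inf (y4.trans inf_le_right) y5).trans h.cn)).trans h.CV))).trans k.normT
  have := (k.pig.of_le y6).eq_bot y3
  rw [zpowers_eq_bot] at this
  rw [this, orderOf_one] at y2; omega

theorem repl (w : W ∈ 𝒱) (w' : W' ∈ 𝒱) (a : A ∈ maxEA 2 T) : C[W'] ⊓ A ⊔ W' ∈ maxEA 2 T ∨ A ≤ C[W'] := by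
  refine or_iff_not_imp_right.2 fun hn => ?_
  have b := abelem_iff.2 a.2.1
  have n := (PLoc.le_JOf a).trans (h.JJ.trans (h.nJ W' w'))
  have i : C[W'].relIndex A ∣ 2 := PiN.dvd_of_dvd_mul ((b.pig p2).relIndex _) (c := 3) ((pin_compl p2).2 (by decide))
    (idx_cent_rank2 p2 (h.ab.of_le (h.le _ w')) (pRank_le_of_card p2 (h.card _ w')) n)
  have j : #(C[W'] ⊓ A ⊓ W') ≤ 2 := by
    by_cases e : C[W'] ⊓ A ⊓ W' = ⊥
    · rw [e, card_bot']; omega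
    exact (card_sub_of_sq p2 (h.card _ w') (inf_lt_right.2 fun i => hn (cent_symm
      (i.trans (inf_le_right.trans b.abel)))) e).le
  have k := (isProd_r (cents_norm (inf_le_left (a := C[W']) (b := A)))).card
  refine PLoc.mem_maxEA_of_card a (_root_.sup_le (inf_le_right.trans a.1) ((h.le _ w').trans h.VT)) (abelem_iff.1
    ((b.of_le inf_le_right).sup (h.ab.of_le (h.le _ w')) (inf_le_left (a := C[W'])))) ?_
  refine Nat.le_of_mul_le_mul_right ?_ (card_pos (C[W'] ⊓ A ⊓ W'))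
  rw [k, ← card_inf_mul_relIndex C[W'] A, h.card _ w', mul_assoc, pow_two]
  exact Nat.mul_le_mul_left _ (Nat.mul_le_mul (Nat.le_of_dvd two_pos i) j)

theorem single (w : W ∈ 𝒱) : ∃ A ∈ maxEA 2 T, ¬ A ≤ C[W] ∧ A ≤ C[Oth 𝒱 W] := by
  obtain ⟨A, a, n⟩ : ∃ A ∈ maxEA 2 T, ¬ A ≤ C[W] := by
    by_contra! c
    have := h.ln W w
    rw [inf_eq_left.2 (cent_symm (PLoc.JOf_le_iff.2 c)), h.card W w] at this
    omega
  obtain ⟨_, -, ⟨B, b1, b2, rfl⟩, mx⟩ := exists_maximal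
    (P := fun D => ∃ B ∈ maxEA 2 T, ¬ B ≤ C[W] ∧ D = B ⊓ Oth 𝒱 W) ⟨A, a, n, rfl⟩
  refine ⟨B, b1, b2, cent_symm (sSup_le fun U u => cent_symm ((h.repl w u.1 b1).elim (fun m => ?_) id))⟩
  have b := abelem_iff.2 b1.2.1
  have l := le_Oth u.1 u.2
  have nB : ∀ W ∈ 𝒱, B ≤ N[W] := fun W w => (PLoc.le_JOf b1).trans (h.JJ.trans (h.nJ W w))
  have oV := (Oth_le 𝒱 W).trans h.sV
  have e := mx _ ⟨_, m, fun i => b2 fun g g1 => mem_C.2 fun x x1 => ?_, rfl⟩ (le_inf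
    ((le_inf (inf_le_right.trans (centSS h.ab.abel oV (h.le _ u.1))) inf_le_left).trans le_sup_left) inf_le_right)
  · exact cent_symm (((le_inf le_sup_right l).trans e.le).trans (inf_le_left.trans b.abel))
  obtain ⟨c, c1, y, y1, rfl⟩ := (mem_sup_r (cents_norm (inf_le_left (a := C[U]) (b := B)))).1
    (PLoc.le_of_mem_maxEA m ((h.le W w).trans h.VT) (abelem_iff.1 (h.ab.of_le (h.le W w))) (cent_symm i) x1)
  refine (sep (eq_bot_iff.2 ((inf_le_inf_left _ l).trans (h.ind W w).le)) (nB W w g1) (nB U u.1 g1) x1 (inv_mem y1) ?_).symm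
  rw [mul_inv_cancel_right]
  exact mem_C_comm b.abel g1 c1.2

theorem exists_x (w : W ∈ 𝒱) : ∃ t ∈ JOf 2 T, t ∉ C[W] ∧ ∃ x ∈ N, x ∈ N[W] ∧ x ∉ N[W ⊓ C[Bau T]] ∧ x ^ 3 = 1 ∧
    t * x * t⁻¹ = x⁻¹ ∧ x ∈ N[Bau T ⊓ C[W]] := by
  obtain ⟨A, a, a1, a2⟩ := h.single w
  obtain ⟨t, t1, t2⟩ := SetLike.not_le_iff_exists.1 a1
  have b := abelem_iff.2 a.2.1
  have aJ := (PLoc.le_JOf a).trans h.JJ
  have JN := PLoc.JOf_le (e := 2) N
  have nJ := PLoc.le_normalizer_JOf (e := 2) N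
  have QT := h.syl.O_le
  have hW := h.ab.of_le (h.le W w)
  have cV : ∀ c ∈ JOf 2 N, c ∈ C[W] → c ∈ C[Oth 𝒱 W] → c ∈ C[V] := fun c c1 c2 c3 =>
    h.cn ⟨c1, centS (h.sup_le W) (C_sup W _ ▸ ⟨c2, c3⟩)⟩
  have m := (h.repl w w a).resolve_right a1
  have mQ : C[W] ⊓ A ⊔ W ≤ O[{2}](N) := _root_.sup_le
    (fun c i => h.TV ⟨a.1 i.2, cV c (aJ i.2) i.1 (a2 i.2)⟩) ((h.le W w).trans h.VQ)
  have z1 : ZJOf 2 O[{2}](N) ≤ C[W] ⊓ A ⊔ W := PLoc.ZJOf_le_of_mem (PLoc.mem_maxEA_of_le m mQ QT)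
  have z2 : ZJOf 2 T ≤ ZJOf 2 O[{2}](N) := PLoc.ZJOf_le_ZJOf m mQ QT
  have z3 : W ≤ ZJOf 2 O[{2}](N) := (h.le W w).trans (h.vQ.trans (PLoc.omegaOne_center_le_ZJOf _))
  have z4 : N ≤ N[ZJOf 2 O[{2}](N)] := (O_norm _ _).trans (PLoc.normalizer_le_normalizer_ZJOf _)
  have nA := aJ.trans (h.nJ W w)
  have z5 : ⁅ZJOf 2 O[{2}](N), A⁆ ≤ W := (commS (z1.trans (sup_le_sup_right inf_le_right _)) le_rfl).trans
    (comm_sup_le ((abel_iff_der.1 b.abel).le.trans bot_le) (commL nA) nA (normG W))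
  obtain ⟨g, g1, g2⟩ := SetLike.not_le_iff_exists.1 (h.ex W w)
  replace g1 := g1.1
  have z6 : ⁅ZJOf 2 O[{2}](N), cj g A⁆ ≤ W := by
    rw [← cj_of_mem_N (z4 (JN g1)), ← cj_comm]; exact cj_le_of_mem z5 (h.nJ W w g1)
  have nU : A ⊔ cj g A ≤ N[ZJOf 2 T ⊔ W] := _root_.sup_le
    (comm_le_l.1 ((commS (_root_.sup_le z2 z3) le_rfl).trans (z5.trans le_sup_right)))
    (comm_le_l.1 ((commS (_root_.sup_le z2 z3) le_rfl).trans (z6.trans le_sup_right)))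
  have eJ : A ⊔ cj g A ≤ JOf 2 N := _root_.sup_le aJ (cj_le_of_mem aJ (normG _ g1))
  have eO : A ⊔ cj g A ≤ C[Oth 𝒱 W] := _root_.sup_le a2 (cj_le_of_mem a2 (normC (h.nOth h.nJ W) g1))
  obtain ⟨l, l1, l2⟩ := exists_mem_ne_one (ne_bot_of_prime (h.ln W w ▸ p2))
  have gW := h.nJ W w g1
  have k1 : g * l * g⁻¹ ∈ W := conj_mem gW l1.1
  have k2 : g * l * g⁻¹ ≠ 1 := by simpa using l2
  have nL : ∀ y : G, y ∈ N[W ⊓ C[JOf 2 T]] → y * l * y⁻¹ = l := fun y i =>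
    (mem_two (h.ln W w) l1 l2 (conj_mem i l1)).resolve_left (by simpa using l2)
  have k3 : g * l * g⁻¹ ≠ l := fun e => g2 (by
    rw [← eq_zpowers_of_prime (by rw [h.ln W w]; exact p2) l1 l2, mem_N_iff_cj, cj_zpowers, e])
  have tl : t * l * t⁻¹ = l := by rw [mem_C.1 l1.2 t (PLoc.le_JOf a t1), mul_inv_cancel_right]
  have s1 : g * t * g⁻¹ ∈ cj g A := mem_cj_conj.2 t1
  have s2 : g * t * g⁻¹ ∉ C[W] := fun i => t2 ((mem_N.1 (normC (le_refl N[W]) gW) _).2 i)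
  have s3 : g * t * g⁻¹ * (g * l * g⁻¹) * (g * t * g⁻¹)⁻¹ = g * l * g⁻¹ := by
    conv_rhs => rw [← tl]
    group
  have s4 : (g * t * g⁻¹) ^ 2 = 1 := by rw [conj_pow, b.pow t t1]; group
  generalize g * t * g⁻¹ = s at s1 s2 s3 s4
  generalize g * l * g⁻¹ = l' at k1 k2 k3 s3
  have yE : t * s ∈ A ⊔ cj g A := mul_mem_sup' t1 s1
  have f1 := four_cj hW (h.card W w) l1.1 l2 k1 k2 k3 (nA t1) tl t2
  have f2 := four_cj hW (h.card W w) k1 k2 l1.1 l2 k3.symm (h.nJ W w (eJ (mem_sup_right s1))) s3 s2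
  have ll : l * l = 1 := by rw [← pow_two, hW.pow l l1.1]
  have ll' : l' * l' = 1 := by rw [← pow_two, hW.pow l' k1]
  have lc : l' * l = l * l' := mem_C_comm hW.abel k1 l1.1
  have y1 : t * s * l * (t * s)⁻¹ = l' := by
    calc _ = t * (s * l * s⁻¹) * t⁻¹ := by group
      _ = (t * l' * t⁻¹) * (t * l * t⁻¹) := by rw [f2]; group
      _ = l' := by rw [f1, tl, mul_assoc, lc, ← mul_assoc, ll, one_mul]
  have y2 : t * s * l' * (t * s)⁻¹ = l * l' := by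
    calc _ = t * (s * l' * s⁻¹) * t⁻¹ := by group
      _ = _ := by rw [s3, f1]
  have it : t⁻¹ = t := inv_eq_of_mul_eq_one_right (by rw [← pow_two, b.pow t t1])
  have is : s⁻¹ = s := inv_eq_of_mul_eq_one_right (by rw [← pow_two, s4])
  have y3 : t * (t * s) * t⁻¹ = (t * s)⁻¹ := by
    rw [mul_inv_rev, is, ← mul_assoc, ← pow_two, b.pow t t1, one_mul]
  generalize t * s = y at yE y1 y2 y3
  have y4 : y * (l * l') * y⁻¹ = l := by
    calc _ = (y * l * y⁻¹) * (y * l' * y⁻¹) := by group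
      _ = l := by rw [y1, y2, ← mul_assoc, lc, mul_assoc, ll', mul_one]
  have y5 : y ^ 3 ∈ C[W] := four_C hW (h.card W w) l1.1 l2 k1 k2 k3
    (by calc _ = y * (y * (y * l * y⁻¹) * y⁻¹) * y⁻¹ := by simp only [pow_three', mul_inv_rev, mul_assoc]
      _ = l := by rw [y1, y2, y4])
    (by calc _ = y * (y * (y * l' * y⁻¹) * y⁻¹) * y⁻¹ := by simp only [pow_three', mul_inv_rev, mul_assoc]
      _ = l' := by rw [y2, y4, y1])
  have y6 := cV _ (eJ (pow_mem yE 3)) y5 (eO (pow_mem yE 3))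
  have y7 := h.CV ⟨JN (eJ (pow_mem yE 3)), y6⟩
  have y8 : (y ^ 3) ^ 2 ∈ T := by
    have := mul_mem (conj_mem y7 (a.1 t1)) (inv_mem (a.1 t1))
    rwa [show y ^ 3 * t * (y ^ 3)⁻¹ * t⁻¹ = y ^ 3 * ((t * y * t⁻¹) ^ 3)⁻¹ by rw [conj_pow]; group, y3, inv_pow,
      inv_inv, ← pow_two] at this
  obtain ⟨k, hk⟩ := (h.syl.pi.elt y8).pow_eq_one p2
  obtain ⟨j, hj⟩ : ∃ j, 2 ^ (k + 1) * 2 ^ (k + 1) = 3 * j + 1 := by
    rw [← mul_pow]
    have : (2 * 2) ^ (k + 1) % 3 = 1 := by rw [Nat.pow_mod]; simp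
    exact ⟨(2 * 2) ^ (k + 1) / 3, by omega⟩
  have xE := pow_mem yE (3 * j + 1)
  have x1 : y ^ (3 * j + 1) ∉ N[W ⊓ C[Bau T]] := fun i => k3 (by
    rw [h.lnB w, pow_succ, pow_mul] at i
    have := mul_mem (inv_mem (C_le_N _ (centS inf_le_left (pow_mem y5 j)))) i
    rw [inv_mul_cancel_left] at this
    rw [← y1, nL y this])
  have x2 : (y ^ (3 * j + 1)) ^ 3 = 1 := by
    rw [← pow_mul, ← pow_mul] at hk
    rw [← hj, ← pow_mul, show 2 ^ (k + 1) * 2 ^ (k + 1) * 3 = 3 * (2 * 2 ^ k) * 2 ^ (k + 1) by ring, pow_mul, hk, one_pow]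
  have x3 : t * y ^ (3 * j + 1) * t⁻¹ = (y ^ (3 * j + 1))⁻¹ := by rw [← conj_pow, y3, inv_pow]
  generalize y ^ (3 * j + 1) = x at xE x1 x2 x3
  have xN := JN (eJ xE)
  have xW := h.nJ W w (eJ xE)
  refine ⟨t, PLoc.le_JOf a t1, t2, x, xN, xW, x1, x2, x3, ?_⟩
  have q1 : Bau T ⊓ C[W] ⊔ O[{2}](N) ≤ T := _root_.sup_le (inf_le_left.trans (Bau_le T)) QT
  have q2 : x ∈ N[Bau T ⊓ C[W] ⊔ O[{2}](N)] := mem_N_of_cj_le (by
    rw [cj_sup, cj_of_mem_N (O_norm _ _ xN)]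
    refine _root_.sup_le (fun z i => ?_) le_sup_right
    obtain ⟨c, c1, rfl⟩ := exists_of_mem_cj i
    have c2 := Bau_le T c1.1
    have c3 : x * c * x⁻¹ * c⁻¹ ∈ C[V] := by
      refine cV _ ?_ (mul_mem (conj_mem (normC (le_refl N[W]) xW) c1.2) (inv_mem c1.2)) ?_ <;>
        rw [mul_assoc x, mul_assoc x]
      · exact mul_mem (eJ xE) (conj_mem (nJ (h.syl.le c2)) (inv_mem (eJ xE)))
      · exact mul_mem (eO xE) (conj_mem (normC (h.nOth (fun U u => h.BW u) W) c1.1) (inv_mem (eO xE)))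
    have c4 := conj_mem (normG N xN) (h.syl.le c2)
    have c5 : x * c * x⁻¹ ∈ T := h.memT c4 (by
      simpa using mul_mem (h.CV (mem_inf.2 ⟨mul_mem c4 (inv_mem (h.syl.le c2)), c3⟩)) (normG T c2)) (pie_conj.2 (h.syl.pi.elt c2))
    simpa using mul_mem (mem_sup_right (h.TV (mem_inf.2 ⟨mul_mem c5 (inv_mem c2), c3⟩))) (mem_sup_left c1))
  have q3 : Bau T ⊓ C[W] = (Bau T ⊓ C[W] ⊔ O[{2}](N)) ⊓ C[ZJOf 2 T ⊔ W] := by
    rw [C_sup]
    exact le_antisymm (le_inf le_sup_left (inf_le_inf_right _ inf_le_right))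
      (le_inf (inf_le_inf q1 inf_le_left) (inf_le_right.trans inf_le_right))
  rw [q3]
  exact normI (zpowers_le.2 q2) (normC (zpowers_le.2 (nU xE))) (mem_zpowers x)

theorem exists_good (w : W ∈ 𝒱) : ∃ P ≤ N, Good P (Bau T) ∧ P ≤ N[W] ∧ ¬ P ≤ N[W ⊓ C[JOf 2 T]] := by
  obtain ⟨t, t1, t2, x, x1, x2, x3, x4, x5, x6⟩ := h.exists_x w
  have tB := J_le_Bau T t1
  have pB := h.syl.pi.of_le (Bau_le T)
  have BW := h.BW w
  have i : (Bau T ⊓ C[W]).relIndex (Bau T) = 2 := by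
    rw [inf_relIndex_left]
    refine ((Nat.dvd_prime p2).1 (PiN.dvd_of_dvd_mul (pB.relIndex _) (c := 3) ((pin_compl p2).2 (by decide))
      (idx_cent_rank2 p2 (h.ab.of_le (h.le _ w)) (pRank_le_of_card p2 (h.card _ w)) BW))).resolve_left
      fun e => t2 (relIndex_eq_one.1 e tB)
  have nQ : Bau T ≤ N[Bau T ⊓ C[W]] := normI (normG _) (normC BW)
  have cX : #(zpowers x) = 3 := card_zpowers_of_pow Nat.prime_three x4 fun e => x3 (e ▸ one_mem _)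
  have pX : PiG {2}ᶜ (zpowers x) := pig_of_card Nat.prime_three cX (by simp)
  have pQ := pB.of_le (inf_le_left (b := C[W]))
  have sd : Sdprod (Bau T ⊓ C[W]) (zpowers x) _ := sdprod_sup (pQ.inf_bot pX) (zpowers_le.2 x6)
  have nO : Bau T ≤ N[Bau T ⊓ C[W] ⊔ zpowers x] := by
    refine (sup2 i inf_le_left (zpowers_le.2 tB) fun j => t2 (j (mem_zpowers t)).2).ge.trans
      (_root_.sup_le (normY (zpowers_le.2 (nQ tB)) (zpowers_le.2 ?_)) (normsG le_sup_left))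
    rw [mem_N_iff_cj, cj_zpowers, x5, zpowers_inv]
  have e : Bau T ⊔ (Bau T ⊓ C[W] ⊔ zpowers x) = Bau T ⊔ zpowers x := by
    rw [← sup_assoc, sup_inf_self]
  have j : (Bau T).relIndex (Bau T ⊔ zpowers x) = 3 := by
    rw [(isProd_of_r nO e).relIndex, ← inf_relIndex_right, (sd.hall_l pQ pX).max (pB.of_le inf_le_left) inf_le_right
      (le_inf inf_le_left le_sup_left), sd.relIndex_l, cX]
  have nL : Bau T ≤ N[W ⊓ C[Bau T]] := cents_norm (cent_symm inf_le_right)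
  have nn : ¬ Bau T ⊔ zpowers x ≤ N[W ⊓ C[Bau T]] := fun i => x3 (i (mem_sup_right (mem_zpowers x)))
  have PW : Bau T ⊔ zpowers x ≤ N[W] := _root_.sup_le BW (zpowers_le.2 x2)
  have sy : Syl 2 (Bau T) (Bau T ⊔ zpowers x) := syl_mk p2 le_sup_left pB (by rw [j]; decide)
  have eQ : O[{2}](Bau T ⊔ zpowers x) = Bau T ⊓ C[W] :=
    (eq_or_eq_of_relIndex_prime (by rw [i]; exact p2) (le_O (inf_le_left.trans le_sup_left)
      (_root_.sup_le nQ (zpowers_le.2 x6)) pQ) sy.O_le).resolve_right fun e => nn (normI PW (normC (by have := O_norm {2} (Bau T ⊔ zpowers x); rwa [e] at this)))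
  have WB := (h.le W w).trans h.VB
  have hW := h.ab.of_le (h.le W w)
  refine ⟨_, _root_.sup_le ((Bau_le T).trans h.syl.le) (zpowers_le.2 x1), ⟨⟨le_sup_left, pB, j, eQ ▸ i, ?_, fun c => ?_⟩,
    ?_⟩, PW, h.lnB w ▸ nn⟩
  · rw [eQ]
    have c : (Bau T ⊔ zpowers x) ⊓ C[Bau T ⊓ C[W]] ≤ C[W] := inf_le_right.trans (centS (le_inf WB hW.abel))
    refine le_inf (le_sup_right.trans ((eq_or_eq_of_relIndex_prime (by rw [j]; exact Nat.prime_three) le_sup_left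
      (_root_.sup_le le_sup_left inf_le_left)).resolve_right fun e => nn ?_).le) c
    exact e.ge.trans (_root_.sup_le nL (cents_norm (c.trans (centS inf_le_left))))
  · exact nn (cents_norm (c.trans (centS (le_OmZ (inf_le_left.trans WB) inf_le_right (hW.of_le inf_le_left)))))
  · rw [J_Bau, eQ]; exact fun c => t2 (c t1).2

theorem gen' (h1 : N ⊓ N[Bau T] ≤ M) (h2 : ∀ P ≤ N, Good P (Bau T) → P ≤ M) : N ≤ M := by
  have TM : T ≤ M := (le_inf h.syl.le (normBau (normG T))).trans h1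
  have JN := PLoc.JOf_le (e := 2) N
  have a := le_inf (h.toFFS.gen (M ⊓ N) inf_le_right (le_inf TM h.syl.le) fun W w i => by
    obtain ⟨P, p1, p2, p3, p4⟩ := h.exists_good w
    exact p4 ((le_inf (le_inf (h2 P p1 p2) p1) p3).trans i)) JN
  rw [modl_r (normC (inf_le_right.trans h.nV)) inf_le_right] at a
  have n := PLoc.le_normalizer_JOf (e := 2) N
  refine (Syl.frattini (h.syl.inf_norm' JN n) p2 JN n).sup.ge.trans (_root_.sup_le (a.trans (_root_.sup_le inf_le_left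
    ((le_inf inf_le_right (normBau ((inf_comm _ _).le.trans h.CV))).trans h1))) (le_trans (le_inf inf_le_left ?_) h1))
  have b : N ⊓ N[T ⊓ JOf 2 N] ≤ N[ZJOf 2 T] := inf_le_right.trans (by
    rw [← PLoc.ZJOf_eq_of_le (le_inf (PLoc.JOf_le T) h.JJ) inf_le_left]; exact PLoc.normalizer_le_normalizer_ZJOf _)
  have c : N ⊓ C[ZJOf 2 T] ≤ N[T] := (inf_le_inf_left _ (centS (PLoc.omegaOne_center_le_ZJOf T))).trans h.z
  have s := h.syl.inf_norm (K := N ⊓ C[ZJOf 2 T]) inf_le_left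
    (normI (normsG h.syl.le) (normC (PLoc.le_normalizer_ZJOf T)))
  rw [← inf_assoc, inf_eq_left.2 h.syl.le] at s
  exact s.norm_char (normBau c) (normI (normsG inf_le_left) (normC b))

end LP

end Cfsg.Agent.ZN
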