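import Cfsg.Agent.ZN.Par
/-! The planes of a failure of factorization module, with the decomposition of the module. -/
set_option autoImplicit false
set_option linter.unusedSectionVars false
set_option linter.unusedVariables false

namespace Cfsg.Agent.ZN
open Subgroup Cfsg.Agent.BG PHom Cfsg.Agent.Fac
open Cfsg.Agent.PLoc (JOf maxEA ZJOf OmZ)
open scoped MatrixGroups

universe u
variable {G : Type u} [Group G] [Finite G] {A B D H K L P S T U V W X Y Θ : Subgroup G} {g : G} {p : ℕ}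
  {π : Set ℕ} {𝒱 : Set (Subgroup G)} [hp : Fact p.Prime]

theorem exists_ffs2 (hS : Syl p S K) (hV : Abelem p V) (h1 : V ≤ S) (hK : K ≤ N[V]) (hs : Sol K)
    (hO : ∀ D ≤ K, K ≤ N[D] → PiN {p} (C[V].relIndex D) → D ≤ C[V]) (n1 : B ≤ N[K]) (n2 : B ≤ N[V])
    (pB : PiG π B) (pK : PiG πᶜ K) (sB : Sol B) : ∃ 𝒱, FFS p K S B V 𝒱 ∧ JOf p K ⊓ C[sSup 𝒱] ≤ C[V ⊓ C[JOf p K]] ⊓ C[V] ∧
      V ≤ V ⊓ C[JOf p K] ⊔ sSup 𝒱 := by
  obtain ⟨Γ, _, _, ψ, θ, h⟩ := exists_holP V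
  have nK := h.dom ▸ hK
  have J := PLoc.JOf_le (e := p) K
  have JV := J.trans hK
  have nJ := n1.trans (PLoc.normalizer_le_normalizer_JOf (e := p) K)
  obtain ⟨f, gn⟩ := h.ffJ hV (h1.trans hS.le) hK (PLoc.isPSolvable_of_isSolvable hs) (by
    have e := im_pre_inf (O_le {p} (ψ.im K))
    have l : ψ.pre O[{p}](ψ.im K) ⊓ K ≤ K := inf_le_right
    rw [← e, im_eq_bot_iff (l.trans nK), h.ker]
    refine hO _ l (normI (norm_pre nK (O_norm _ _)) (normG K)) ?_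
    rw [← h.ker, ← pig_im_iff (l.trans nK), e]; exact O_pig _ _)
  generalize hH : ψ.im (JOf p K) = H at f gn
  have iV := (h.norm_iff n2 le_rfl).2 n2
  have iH : ψ.im B ≤ N[H] := hH ▸ im_norm nJ
  have pH : PiG πᶜ H := hH ▸ (pK.of_le J).im ψ
  let 𝒱 := {W | W ≤ V ∧ ∃ A, TV p (θ.im V) H A ∧ θ.im W = ⁅θ.im V, EA p H A⁆}
  have cd : ∀ W ∈ 𝒱, #W = p ^ 2 := fun W ⟨a, A, t, e⟩ => by
    rw [← h.card a, e, (t.plane f).eq, (t.plane f).card_W]
  have nW : ∀ W ∈ 𝒱, JOf p K ≤ N[W] := fun W ⟨a, A, t, e⟩ => (h.norm_iff JV a).1 (e ▸ hH ▸ t.nW f gn)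
  have ln : ∀ W ∈ 𝒱, #(W ⊓ C[JOf p S]) = p := fun W w => by
    refine card_sub_of_sq hp.out (cd W w) (inf_lt_left.2 fun i => ?_) (((hV.of_le w.1).pig hp.out).meet_C
      (hS.pi.of_le (PLoc.JOf_le S)) ((JOf_mono hS).trans (nW W w))
      fun e => (Nat.one_lt_pow two_ne_zero hp.out.one_lt).ne' ((cd W w).symm.trans (e ▸ card_bot')))
    obtain ⟨a, A, t, e⟩ := w
    have := (h.cent_iff JV a).2 (JOf_le_of hS (cent_symm i) (normC (nW W ⟨a, A, t, e⟩)))
    rw [hH, e, (t.plane f).eq] at this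
    exact (t.plane f).not_cent (t.le.trans this)
  refine ⟨𝒱, ⟨fun W w => w.1, cd, fun W ⟨_, A, t, _⟩ => t.two_or_three f, fun W ⟨_, A, t, _⟩ =>
    (t.plane f).card_R ▸ (cardS ((t.plane f).le.trans (hH.ge.trans (im_mono J)))).trans (card_im_dvd K), nW, ?_, ?_, ?_, ln, ?_, ?_⟩, ?_⟩
  · rintro g ⟨g1, g2⟩ W ⟨a, A, t, e⟩
    have b : ψ.app g ∈ N[H] := hH ▸ app_mem_N (PLoc.normalizer_le_normalizer_JOf K g1) (h.dom ▸ g2)
    have c : ψ.app g ∈ N[θ.im V] := by rw [mem_N_iff_cj, ← h.im_cj g2 le_rfl, cj_of_mem_N g2]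
    exact ⟨cj_le_of_mem a g2, _, t.cj b c, by rw [h.im_cj g2 a, e, cj_comm, cj_of_mem_N c, cj_EA b]⟩
  · rintro W ⟨a, A, t, e⟩
    have b : Oth 𝒱 W ≤ θ.pre C[EA p H A] := sSup_le fun U ⟨⟨a', A', t', e'⟩, c⟩ => (le_pre_iff (h.tdom ▸ a')).2
      (e' ▸ (t'.cmp t f).resolve_left fun i => c (im_inj (h.tdom ▸ a') (h.tdom ▸ a) (h.tker ▸ bot_le)
        (h.tker ▸ bot_le) (by rw [e, e', i])))
    rw [eq_bot_iff, ← h.tker, ← im_eq_bot_iff (inf_le_left.trans (h.tdom ▸ a)), eq_bot_iff, ← (t.plane f).inf_C,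
      ← (t.plane f).eq, ← e]
    exact le_inf (im_mono inf_le_left) (((im_mono (inf_le_right.trans b)).trans (im_pre_le _)).trans (centS le_sup_left))
  · rintro W ⟨a, A, t, e⟩ b ⟨b1, b2⟩
    have c := zpowers_le.2 (n2 b1)
    refine (h.cent_iff c a).1 ?_ (mem_zpowers b)
    rw [im_zpowers (h.dom ▸ n2 b1), zpowers_le, e]
    refine ((t.dich f iV iH (pB.im ψ) pH (app_mem_im b1 (h.dom ▸ n2 b1))).resolve_right fun i => ?_).2
    have := i.2
    rw [← e, ← h.im_cj (n2 b1) a, cj_of_mem_N b2, e, (t.plane f).eq] at this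
    exact (t.plane f).not_cent (cent_symm (this.trans (centS le_sup_right)))
  · rintro W w i
    have c := ln W w
    obtain ⟨a, A, t, e⟩ := w
    have P := t.plane f
    have l := (inf_le_left (b := C[JOf p S])).trans a
    have b := (h.norm_iff (inf_le_left.trans JV) l).2 i
    rw [im_IC (h.dom ▸ n2) (J.trans nK) (normI nJ (h.ker ▸ normC n2))
      (PiN.coprime' (pK.of_le (inf_le_left.trans J)) pB).symm (.inl sB) nJ, hH] at b
    have l' : θ.im (W ⊓ C[JOf p S]) ≤ ⁅θ.im V, EA p H A⁆ := e ▸ im_mono inf_le_left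
    have d := P.irr _ (P.eq ▸ l') (P.le.trans ((t.le_diag f gn iV iH (pB.im ψ) pH (sB.im ψ)).trans
      (sup_le b (cents_norm (inf_le_right.trans (centS l'))))))
    rw [← h.card l] at c
    rcases d with d | d <;> rw [d] at c
    · exact hp.out.one_lt.ne (card_bot'.symm.trans c)
    · rw [P.card_W] at c; nlinarith [hp.out.one_lt]
  · intro L l1 l2 hL
    rw [← h.ker, ← im_le_im_iff (J.trans nK) (l1.trans nK), hH]
    refine gn _ fun A t => ?_
    have P := t.plane f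
    obtain ⟨W, a, -, e⟩ := exists_im_eq' (commL P.nV : ⁅θ.im V, EA p H A⁆ ≤ _)
    have w : W ∈ 𝒱 := ⟨a, A, t, e⟩
    obtain ⟨x, x1, x2⟩ := SetLike.not_le_iff_exists.1 (hL W w)
    have xV := hK (l1 x1.1)
    have s : Syl p (ψ.im (S ⊓ JOf p K)) H := hH ▸ (hS.inf_norm' J (PLoc.le_normalizer_JOf K)).im (J.trans nK)
    obtain ⟨y, y1, y2⟩ := Syl.cj_sub (s.inf_norm' P.leE (t.nE f gn)) hp.out le_sup_right t.pig
    have l := (inf_le_left (b := C[JOf p S])).trans a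
    have c1 : cj y A ≤ C[θ.im (W ⊓ C[JOf p S])] := (y2.trans inf_le_left).trans
      ((h.cent_iff (inf_le_right.trans JV) l).2 ((hS.pi.of_le inf_le_left).cent_of_prime hp.out (ln W w)
        (normI (inf_le_right.trans (nW W w)) (normC (inf_le_left.trans (PLoc.le_normalizer_JOf S))))))
    have b : ψ.app x ∈ N[H] := hH ▸ app_mem_N (PLoc.le_normalizer_JOf K (l1 x1.1)) (h.dom ▸ xV)
    have c : ψ.app x ∈ N[θ.im V] := by rw [mem_N_iff_cj, ← h.im_cj xV le_rfl, cj_of_mem_N xV]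
    have nE : ψ.app x ∈ N[EA p H A] := by
      rw [mem_N_iff_cj, cj_EA b]
      refine (t.cj b c).eq_of t f ?_
      rw [← cj_EA b, ← e, ← cj_of_mem_N x1.2, h.im_cj xV a, e, cj_comm, cj_of_mem_N c]
    have yE := y2.trans inf_le_right
    have yL : cj y A ≤ ψ.im L := (y2.trans inf_le_left).trans (im_mono (inf_le_left.trans l2))
    have zE := cj_le_of_mem yE nE
    have zL := cj_le_of_mem yL (normG _ (app_mem_im x1.1 (h.dom ▸ xV)))
    have cy : #(cj y A) = p := by rw [card_cj, t.card]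
    have fa : ∀ D ≤ EA p H A, #D = p → ¬ D ≤ C[⁅θ.im V, ⁅O[{p}ᶜ](H), A⁆⁆] := fun D d1 d2 d3 =>
      ne_bot_of_prime (d2 ▸ hp.out) (eq_bot_iff.2 ((le_inf d1 d3).trans P.faith.le))
    obtain ⟨φ, F⟩ := exists_slrep P.pn
    have dm := (sup_le yE zE).trans (P.dom F)
    have m := le_inf (F.le_sup dm (F.im_top dm le_sup_left le_sup_right cy (by rw [card_cj, cy]) (fa _ yE cy)
      fun i => fa _ zE (by rw [card_cj, cy]) ?_) (P.dom F)) le_rfl
    · rw [modl_r (normC ((sup_le yE zE).trans P.nW)) (sup_le yE zE), inf_comm, P.faith, sup_bot_eq] at m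
      exact le_sup_right.trans (m.trans (sup_le yL zL))
    rw [← P.eq, ← e] at i ⊢
    refine le_trans (centY (i.trans (sup_le c1 (centS (im_mono inf_le_left)))) (cent_cj.2 c1)) (centS ?_)
    rw [← h.im_cj xV l, ← im_sup (h.tdom ▸ l) (h.tdom ▸ cj_le_of_mem l xV)]
    exact im_mono (line_sup (cd W w) inf_le_left (ln W w) x1.2 x2)
  · have l : sSup 𝒱 ≤ V := sSup_le fun W w => w.1
    have m : V ≤ V ⊓ C[JOf p K] ⊔ sSup 𝒱 := by
      refine le_of_im_le (φ := θ) h.tdom.ge ((sup_le inf_le_left l).trans h.tdom.ge) (h.tker ▸ bot_le) ?_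
      rw [im_sup (inf_le_left.trans h.tdom.ge) (l.trans h.tdom.ge), h.im_C JV, hH]
      refine (f.dprod_V gn).sup.ge.trans (sup_le_sup_left (iSup₂_le ?_) _)
      rintro E ⟨A, t, rfl⟩
      obtain ⟨W, a, -, e⟩ := exists_im_eq' (commL (t.plane f).nV : ⁅θ.im V, EA p H A⁆ ≤ _)
      exact e ▸ im_mono (le_sSup (show W ∈ 𝒱 from ⟨a, A, t, e⟩))
    have c : JOf p K ⊓ C[sSup 𝒱] ≤ C[V ⊓ C[JOf p K]] := inf_le_left.trans (cent_symm inf_le_right)
    exact ⟨le_inf c ((centY c inf_le_right).trans (centS m)), m⟩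

end Cfsg.Agent.ZN
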