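import Cfsg.Agent.ZN.Bau
import Cfsg.Agent.ZN.Amal
import Cfsg.Agent.S1012
/-! Identification of the amalgam inside the subgroup generated by the elements of odd order. -/
set_option autoImplicit false
set_option linter.unusedSectionVars false
set_option linter.unusedVariables false

namespace Cfsg.Agent.ZN
open Subgroup Cfsg.Agent.BG Cfsg.Agent.Fac
open Cfsg.Agent.PLoc (JOf maxEA ZJOf)

universe u
variable {G : Type u} [Group G] [Finite G] {A B D E K L M N P P₁ P₂ Q S T U V W W₁ W₂ X Y : Subgroup G}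
  {g x x₁ x₂ y t l w u z e : G}

/-- the subgroup generated by the elements of odd order -/
abbrev OO (G : Type u) [Group G] : Subgroup G := closure {g : G | Odd (orderOf g)}

theorem nOO (X : Subgroup G) : X ≤ N[OO G] := fun g _ => mem_N_of_cj_le (cj_le_iff.2 ((closure_le _).2 fun x a =>
  mem_cj_inv.2 (subset_closure (show Odd (orderOf _) by
    rw [show g * x * g⁻¹ = MulAut.conj g x from rfl, MulEquiv.orderOf_eq]; exact a))))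

theorem transfer (hS : Syl 2 S ⊤) (hQ : Q ≤ S) (hd : ⁅S, S⁆ ≤ Q) (h1 : u ∈ S) (hu2 : u ^ 2 = 1) (h3 : u ∉ Q)
    (h : ∀ g : G, g * u * g⁻¹ ∈ S → u⁻¹ * (g * u * g⁻¹) ∈ Q) : u ∉ OO G := by
  classical
  obtain ⟨P, rfl⟩ := hS.exists_sylow_top p2
  have : (Q.subgroupOf P).Normal := normal_subgroupOf (norm_of_der_le hd hQ)
  let _ : CommGroup ((P : Subgroup G) ⧸ Q.subgroupOf P) := { (inferInstance : Group _) with
    mul_comm := fun a b => by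
      obtain ⟨a, rfl⟩ := QuotientGroup.mk_surjective a
      obtain ⟨b, rfl⟩ := QuotientGroup.mk_surjective b
      rw [← QuotientGroup.mk_mul, ← QuotientGroup.mk_mul, QuotientGroup.eq, mem_subgroupOf]
      simpa [mul_assoc] using hd (comm_mem (inv_mem b.2) (inv_mem a.2)) }
  let φ := QuotientGroup.mk' (Q.subgroupOf P)
  have hA : IsPGroup 2 ((P : Subgroup G) ⧸ Q.subgroupOf P) := P.2.to_quotient _
  have ht2 : φ ⟨u, h1⟩ ^ 2 = 1 := by rw [← map_pow, ← map_one φ]; congr 1; exact Subtype.ext hu2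
  let V := MonoidHom.transfer φ
  have hV : V u = φ ⟨u, h1⟩ ^ (P : Subgroup G).index := by
    have := Fintype.ofFinite (Quotient (MulAction.orbitRel (zpowers u) (G ⧸ (P : Subgroup G))))
    rw [MonoidHom.transfer_eq_prod_quotient_orbitRel_zpowers_quot, index_eq_sum_minimalPeriod _ u,
      ← Finset.prod_pow_eq_pow_sum]
    refine Finset.prod_congr rfl fun q _ => ?_
    have hd : Function.minimalPeriod (u • ·) q.out ∣ 2 := by
      rw [← MulAction.pow_smul_eq_iff_minimalPeriod_dvd, hu2, one_smul]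
    rcases (Nat.dvd_prime Nat.prime_two).mp hd with e | e
    · simp only [e, pow_one]
      have key : ∀ (g : G) (hg : g⁻¹ * u * g ∈ (P : Subgroup G)), φ ⟨_, hg⟩ = φ ⟨u, h1⟩ := fun g hg =>
        (QuotientGroup.eq.2 (mem_subgroupOf.2 (by simpa using h g⁻¹ (by simpa using hg)))).symm
      exact key _ _
    · simp only [e, ht2, hu2, mul_one, inv_mul_cancel]
      exact map_one _
  have hVu : V u ≠ 1 := by
    obtain ⟨k, hk⟩ := Nat.odd_iff.mpr (Nat.two_dvd_ne_zero.mp P.not_dvd_index)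
    rw [hV, hk, pow_succ, pow_mul, ht2, one_pow, one_mul]
    exact fun e => h3 (mem_subgroupOf.1 ((QuotientGroup.eq_one_iff _).1 e))
  refine fun e => hVu ((show OO G ≤ V.ker from (closure_le _).2 fun g hg => ?_) e)
  obtain ⟨k, hk⟩ := hA (V g)
  exact orderOf_eq_one_iff.1 (Nat.eq_one_of_dvd_coprimes (Nat.Coprime.pow_right k (Odd.coprime_two_right hg))
    (orderOf_map_dvd V g) (orderOf_dvd_of_pow_eq_one hk))

structure Am (P₁ P₂ B : Subgroup G) : Prop where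
  p1 : Par P₁ B
  p2 : Par P₂ B
  nn : ∀ D ≤ B, P₁ ≤ N[D] → P₂ ≤ N[D] → D = ⊥
  ch : ∀ U : Subgroup G, PiG {2} U → U ≠ ⊥ → N[U] ⊓ C[O[{2}](N[U])] ≤ O[{2}](N[U])
  b1 : ∀ U : Subgroup G, PiG {2} U → U ≠ ⊥ → P₁ ≤ N[U] → ∀ T ≤ N[U], PiG {2} T → B ≤ T → Bau T = B
  b2 : ∀ U : Subgroup G, PiG {2} U → U ≠ ⊥ → P₂ ≤ N[U] → ∀ T ≤ N[U], PiG {2} T → B ≤ T → Bau T = B

structure Sd (P W : Subgroup G) (x : G) : Prop where
  xP : x ∈ P
  ox : orderOf x = 3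
  eq : W = ⁅O[{2}](P), zpowers x⁆

local notation "Q₁" => O[{2}](P₁)
local notation "Q₂" => O[{2}](P₂)

theorem Par.sd (h : Par P T) : ∃ W x, Sd P W x := by
  obtain ⟨y, y1, y2⟩ := cauchy Nat.prime_three (show 3 ∣ #P from ⟨2 * #O[{2}](P), by rw [h.card]; ring⟩)
  exact ⟨_, y, y1, y2, rfl⟩

theorem not_mem_of_three (h : PiG {2} T) (hx : orderOf x = 3) : x ∉ T := fun i => by
  have a : PiN {2} (orderOf x) := h.elt i
  rw [hx] at a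
  have := (pin_prime Nat.prime_three).1 a; simp at this

theorem cop3 (h : PiG {2} T) (hx : orderOf x = 3) : (#(zpowers x)).Coprime #T :=
  PiN.coprime' (pig_of_card Nat.prime_three (by rw [card_zpowers', hx]) (by simp)) h

namespace Am
variable (h : Am P₁ P₂ B)
include h

theorem symm : Am P₂ P₁ B := ⟨h.p2, h.p1, fun D a b c => h.nn D a c b, h.ch, h.b2, h.b1⟩
theorem ab : Abelem 2 Q₁ := (amalgam h.p1 h.p2 h.nn).1
theorem cD : #(Q₁ ⊓ Q₂) ≤ 4 := (amalgam h.p1 h.p2 h.nn).2.2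
theorem cQ : #Q₂ = #Q₁ := by
  have := card2 h.p1.idxQ h.p1.QT; have := card2 h.p2.idxQ h.p2.QT; omega
theorem nQQ : ¬ Q₂ ≤ Q₁ := fun i => h.p1.Z_ne (eq_bot_iff.2 (h.p1.ZQ.trans
  (h.nn _ h.p1.QT (O_norm _ _) (eq_of_card_le i h.cQ.ge ▸ O_norm _ _)).le))
theorem supQ : Q₂ ⊔ Q₁ = B := h.p1.supQ h.p2.QT h.nQQ
theorem cQD : #Q₁ = 2 * #(Q₁ ⊓ Q₂) := card2 (by
  rw [inf_relIndex_left]; exact idx2 h.p2.idxQ h.p2.nQ h.p1.QT h.symm.nQQ) inf_le_left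
theorem DC : Q₁ ⊓ Q₂ ≤ C[B] := le_of_le_of_eq (centY (inf_le_right.trans h.symm.ab.abel) (inf_le_left.trans h.ab.abel))
  (congrArg (fun X : Subgroup G => C[X]) h.supQ)
theorem CD : B ⊓ C[B] ≤ Q₁ := (inf_le_inf h.p1.le (centS h.p1.QT)).trans h.p1.ch
theorem CQ (h1 : x ∈ B) (h2 : x ∉ Q₁) (h3 : y ∈ Q₁) (h4 : x * y = y * x) : y ∈ Q₂ := by
  refine h.symm.CD ⟨h.p1.QT h3, ?_⟩
  rw [← h.p1.supQ (zpowers_le.2 h1) (by rwa [zpowers_le]), C_sup, C_zpowers]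
  exact ⟨mem_C1'.2 h4, h.ab.abel h3⟩
theorem inv (h1 : e ∈ B) (h2 : e ^ 2 = 1) : e ∈ Q₁ ∨ e ∈ Q₂ := by
  obtain ⟨a, a1, b, b1, rfl⟩ := (mem_sup_r (h.p2.QT.trans h.p1.nQ)).1 (h.supQ.ge h1)
  by_cases c : a ∈ Q₁
  · exact .inl (mul_mem c b1)
  refine .inr (mul_mem a1 (h.CQ (h.p2.QT a1) c b1 ?_))
  rw [pow_two] at h2
  refine (inv_eq_of_mul_eq_one_right h2).symm.trans ?_
  rw [mul_inv_rev, inv_eq_of_mul_eq_one_right ((pow_two a).symm.trans (h.symm.ab.pow a a1)),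
    inv_eq_of_mul_eq_one_right ((pow_two b).symm.trans (h.ab.pow b b1))]
theorem ea (h1 : A ≤ B) (h2 : Abelem 2 A) : A ≤ Q₁ ∨ A ≤ Q₂ := by
  by_cases c : A ≤ Q₁
  · exact .inl c
  obtain ⟨a, a1, a2⟩ := SetLike.not_le_iff_exists.1 c
  exact .inr fun b b1 => (h.inv (h1 b1) (h2.pow b b1)).elim
    (fun i => h.CQ (h1 a1) a2 i (mem_C_comm h2.abel a1 b1)) id
theorem mx : Q₁ ∈ maxEA 2 B := ⟨h.p1.QT, abelem_iff.1 h.ab, fun A a b =>
  (h.ea a (abelem_iff.2 b)).elim card_le fun i => (card_le i).trans h.cQ.le⟩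
theorem bb (pU : PiG {2} U) (u0 : U ≠ ⊥) (h1 : P₁ ≤ N[U]) (h2 : T ≤ N[U]) (pT : PiG {2} T) (h3 : B ≤ T) :
    T ⊓ C[Q₁ ⊓ Q₂] ≤ B ∧ T ≤ N[B] := by
  have e := h.b1 U pU u0 h1 T h2 pT h3
  refine ⟨le_trans (inf_le_inf_left _ (centS ?_)) e.le, e ▸ normBau (normG T)⟩
  rw [← ZJ_Bau, e]
  exact le_inf (PLoc.ZJOf_le_of_mem h.mx) (PLoc.ZJOf_le_of_mem h.symm.mx)

variable (k : Sd P₁ W x)
include k

theorem nX : zpowers x ≤ N[Q₁] := (zpowers_le.2 k.xP).trans (O_norm _ _)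
theorem Wle : W ≤ Q₁ := k.eq ▸ commL (h.nX k)
theorem Wab : Abelem 2 W := h.ab.of_le (h.Wle k)
theorem WB : W ≤ B := (h.Wle k).trans h.p1.QT
theorem dp : Dprod (Q₁ ⊓ C[zpowers x]) W Q₁ := k.eq ▸ cop_abel_dprod h.ab.abel (h.nX k) (cop3 (O_pig _ _) k.ox)
theorem fp : W ⊓ C[zpowers x] = ⊥ := k.eq ▸ cop_abel_C_comm h.ab.abel (h.nX k) (cop3 (O_pig _ _) k.ox)
theorem nO : P₁ ≤ N[Q₁ ⊔ zpowers x] := by
  have l : Q₁ ⊔ zpowers x ≤ P₁ := sup_le (O_le _ _) (zpowers_le.2 k.xP)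
  have s : Sdprod Q₁ (zpowers x) _ := sdprod_sup (inf_bot_of_coprime (cop3 (O_pig _ _) k.ox).symm) (h.nX k)
  have c := card_mul_relIndex l
  rw [← s.card, card_zpowers', k.ox, h.p1.card] at c
  have i : (Q₁ ⊔ zpowers x).relIndex P₁ = 2 := by have := card_pos Q₁; nlinarith
  exact (normal_subgroupOf_iff_le_normalizer l).1 (normal_of_index_eq_two i)
theorem nW : P₁ ≤ N[W] := by
  have e : W = ⁅Q₁ ⊔ zpowers x, Q₁⁆ := by
    rw [k.eq, sup_comm, commC]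
    exact le_antisymm (commS le_sup_left le_rfl) (comm_sup_le le_rfl ((abel_iff_der.1 h.ab.abel).le.trans bot_le)
      (comm_norml _ _) (comm_normr _ _))
  exact e ▸ normR (h.nO k) (O_norm _ _)
theorem Wcard : #W = 4 := by
  have m := (pig_of_card' Nat.prime_three (by rw [card_zpowers', k.ox])).card_modEq Nat.prime_three
    ((zpowers_le.2 k.xP).trans (h.nW k))
  rw [h.fp k, card_bot'] at m
  have n : W ≠ ⊥ := fun e => not_mem_of_three (O_pig _ _) k.ox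
    (h.p1.ch ⟨k.xP, comm_eq_bot'.1 (k.eq.symm.trans e) (mem_zpowers x)⟩)
  have a := one_lt_card n
  have b := card_le (h.Wle k)
  have c := h.cQD
  have d := h.cD
  obtain ⟨j, e⟩ := ((h.Wab k).pig ZN.p2).card_pow ZN.p2
  have : j < 4 := (Nat.pow_lt_pow_iff_right one_lt_two).1 (by omega)
  rw [e] at m a ⊢
  interval_cases j <;> simp_all [Nat.ModEq]
omit h in
theorem xH : x ∈ OO G := Subgroup.subset_closure (show Odd (orderOf x) by rw [k.ox]; decide)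
theorem WH : W ≤ OO G := k.eq ▸ (commS le_rfl (zpowers_le.2 (xH k))).trans (commR (nOO _))
theorem W0 : W ≠ ⊥ := fun e => by have := h.Wcard k; rw [e, card_bot'] at this; omega
theorem cC : #Q₁ = #(Q₁ ⊓ C[zpowers x]) * 4 := by rw [← (h.dp k).card, h.Wcard k]
theorem Cc : Q₁ ⊓ C[zpowers x] ≤ C[P₁] := by
  have n : P₁ ≤ N[Q₁ ⊓ C[zpowers x]] := by
    have e : Q₁ ⊓ C[zpowers x] = Q₁ ⊓ C[Q₁ ⊔ zpowers x] := by
      rw [C_sup, ← inf_assoc, inf_eq_left.2 h.ab.abel]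
    exact e ▸ normI (O_norm _ _) (normC (h.nO k))
  by_cases e : Q₁ ⊓ C[zpowers x] = ⊥
  · exact e.le.trans bot_le
  have := one_lt_card e
  have := h.cC k
  have := h.cQD
  have := h.cD
  exact cent_symm (relIndex_eq_one.1 (by simpa using idx_cent_prime ZN.p2 (by omega) n))
theorem WC : ¬ W ≤ C[B] := fun i => by
  obtain ⟨t, t1, t2⟩ := SetLike.not_le_iff_exists.1 h.p1.not_le
  have := h.p1.nsup (K := P₁ ⊓ C[W]) inf_le_left (normI (normG _) (normC (h.nW k))) ⟨h.p1.le t1, cent_symm i t1⟩ t1 t2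
  refine h.W0 k (eq_bot_iff.2 ((le_inf le_rfl (cent_symm ((zpowers_le.2 k.xP).trans (this.ge.trans
    (sup_le inf_le_right (centSS h.ab.abel le_rfl (h.Wle k))))))).trans (h.fp k).le))
theorem line : #(W ⊓ C[B]) = 2 := card_sub_of_sq ZN.p2 (h.Wcard k) (inf_lt_left.2 (h.WC k))
  (((h.Wab k).pig ZN.p2).meet_C h.p1.pig (h.p1.le.trans (h.nW k)) (h.W0 k))
theorem der : W ⊓ C[B] = ⁅B, B⁆ := by
  have n := h.p1.le.trans (h.nW k)
  have n' : B ≤ N[W ⊓ C[B]] := cents_norm (cent_symm inf_le_right)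
  have a : ⁅Q₁, B⁆ ≤ W ⊓ C[B] := by
    refine (commS (h.dp k).sup.ge le_rfl).trans (comm_sup_le ((comm_eq_bot.2 ((h.Cc k).trans (centS h.p1.le))).le.trans
      bot_le) (comm_line (p := 2) (h.Wcard k) h.p1.pig n) (inf_le_left.trans (h.p1.QT.trans n')) ((h.WB k).trans n'))
  have b : ⁅B, B⁆ ≤ W ⊓ C[B] := (derS h.supQ.ge).trans (der_sup_le ((abel_iff_der.1 h.symm.ab.abel).le.trans bot_le)
    ((abel_iff_der.1 h.ab.abel).le.trans bot_le) ((commC _ _).le.trans ((commS le_rfl h.p2.QT).trans a))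
    (h.p2.QT.trans n') (h.p1.QT.trans n'))
  exact ((eq_bot_or_eq_of_prime (by rw [h.line k]; exact ZN.p2) b).resolve_left fun e =>
    h.WC k ((h.WB k).trans (comm_eq_bot.1 e))).symm
theorem cR : #⁅B, B⁆ = 2 := by rw [← h.der k, h.line k]
theorem fix (hz : z ∈ ⁅B, B⁆) (h1 : g ∈ N[B]) : g * z * g⁻¹ = z := by
  by_cases e : z = 1
  · simp [e]
  exact (mem_two (h.cR k) hz e (conj_mem (normD (le_refl N[B]) h1) hz)).resolve_left (by simpa using e)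
theorem conj (hz : z ∈ ⁅B, B⁆) (z1 : z ≠ 1) (h1 : w ∈ W) (h2 : w ≠ 1) : ∃ g ∈ P₁, g * z * g⁻¹ = w := by
  have a := ((h.der k).ge hz).1
  have n := h.nW k k.xP
  have f : ∀ y ∈ W, y ≠ 1 → x * y * x⁻¹ ≠ y := fun y y1 y2 e => y2 (mem_bot.1 ((h.fp k).le (mem_inf.2 ⟨y1, by
    rw [C_zpowers, mem_C1', ← mul_inv_eq_iff_eq_mul, e]⟩)))
  have b := conj_mem n a
  have b1 : x * z * x⁻¹ ≠ 1 := by simpa using z1
  have x3 : x * x * x = 1 := by rw [← pow_three', ← k.ox, pow_orderOf_eq_one]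
  rcases four (h.Wab k) (h.Wcard k) a z1 b b1 (f z a z1) h1 with e | e | e | e
  · exact (h2 e).elim
  · exact ⟨1, one_mem _, by simp [e]⟩
  · exact ⟨x, k.xP, e.symm⟩
  rcases four (h.Wab k) (h.Wcard k) a z1 b b1 (f z a z1) (conj_mem n b) with i | i | i | i
  · exact (z1 (by simpa using i)).elim
  · refine (f z a z1 ?_).elim
    conv_lhs => rw [← i]
    calc _ = (x * x * x) * z * (x * x * x)⁻¹ := by group
      _ = z := by rw [x3]; group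
  · exact (f _ b b1 i).elim
  · exact ⟨x * x, mul_mem k.xP k.xP, by rw [e, ← i]; group⟩

theorem cz (hu : u ∈ Q₁ ⊓ Q₂) (u1 : u ≠ 1) (u2 : u ∉ ⁅B, B⁆) (h1 : P₁ ≤ C1[u]) (pT : PiG {2} T) (h2 : B ≤ T)
    (h3 : T ≤ C1[u]) : T = B := by
  have pu := pig_zpowers.2 ((O_pig _ _).elt hu.1)
  obtain ⟨a, b⟩ := h.bb pu (by rwa [Ne, zpowers_eq_bot]) (norm_zpowers h1) (norm_zpowers h3) pT h2
  obtain ⟨z, z1, z2⟩ := exists_mem_ne_one (ne_bot_of_prime (by rw [h.cR k]; exact ZN.p2) : ⁅B, B⁆ ≠ ⊥)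
  have zD : z ∈ Q₁ ⊓ Q₂ := ⟨h.CD ⟨der_le B z1, ((h.der k).ge z1).2⟩, h.symm.CD ⟨der_le B z1, ((h.der k).ge z1).2⟩⟩
  have hD := h.ab.of_le (inf_le_left (b := Q₂))
  have c : #(Q₁ ⊓ Q₂) = 4 := by
    have l : zpowers z < Q₁ ⊓ Q₂ := lt_of_le_of_ne (zpowers_le.2 zD) fun e => u2 (zpowers_le.2 z1 (e.ge hu))
    have := card_lt l
    have d := cardS l.le
    rw [card_zpowers_of_pow ZN.p2 (hD.pow z zD) z2] at this d
    have := h.cD
    omega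
  refine le_antisymm (fun t i => a ⟨i, four_C hD c zD z2 hu u1 (fun e => u2 (e ▸ z1)) (h.fix k z1 (b i)) ?_⟩) h2
  rw [mem_C1.1 (h3 i), mul_inv_cancel_right]

theorem ex_z (c : #(Q₁ ⊓ Q₂) ≠ 2) : #(Q₁ ⊓ Q₂) = 4 ∧ ∃ u ∈ Q₁ ⊓ Q₂, u ≠ 1 ∧ u ∉ ⁅B, B⁆ ∧ P₁ ≤ C1[u] ∧
    zpowers u ⊔ W = Q₁ := by
  have a := h.cC k
  have b := h.cQD
  have d := h.cD
  have e : #(Q₁ ⊓ C[zpowers x]) = 2 := by have := card_pos (Q₁ ⊓ C[zpowers x]); omega
  refine ⟨by omega, ?_⟩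
  obtain ⟨u, u1, u2⟩ := exists_mem_ne_one (ne_bot_of_prime (e ▸ ZN.p2))
  have f := h.Cc k u1
  refine ⟨u, ⟨u1.1, h.symm.CD ⟨h.p1.QT u1.1, centS h.p1.le f⟩⟩, u2, fun i => u2 (mem_bot.1 ((h.fp k).le
    (mem_inf.2 ⟨((h.der k).ge i).1, u1.2⟩))), le_C1_iff.2 f, ?_⟩
  rw [eq_zpowers_of_prime (by rw [e]; exact ZN.p2) u1 u2, (h.dp k).sup]

theorem QW (h1 : Y ≤ N[Q₁]) (h2 : Y ≤ N[W]) : ⁅Q₁, Y⁆ ≤ W := by
  have a := card_mul_relIndex (h.Wle k)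
  have b := h.cQD
  have d := h.cD
  have := relIndex_pos W Q₁
  rw [h.Wcard k] at a
  by_cases e : W.relIndex Q₁ = 1
  · exact (commL h1).trans (relIndex_eq_one.1 e)
  exact comm2 (by omega) h2 h1

end Am

namespace Am
variable (h : Am P₁ P₂ B) (k : Sd P₁ W₁ x₁) (k' : Sd P₂ W₂ x₂)
include h k k'

theorem two (hu : u ∈ Q₁ ⊓ Q₂) (u1 : u ≠ 1) (u2 : u ∉ ⁅B, B⁆) (u3 : P₁ ≤ C1[u]) (hw : w ∈ Q₂ ⊓ Q₁) (w1 : w ≠ 1)
    (w2 : w ∉ ⁅B, B⁆) (w3 : P₂ ≤ C1[w]) (c : #(Q₁ ⊓ Q₂) = 4) (hz : z ∈ ⁅B, B⁆) (z1 : z ≠ 1) : w = z * u := by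
  have zD : z ∈ Q₁ ⊓ Q₂ := ⟨h.CD ⟨der_le B hz, ((h.der k).ge hz).2⟩, h.symm.CD ⟨der_le B hz, ((h.der k).ge hz).2⟩⟩
  rcases four (h.ab.of_le (inf_le_left (b := Q₂))) c zD z1 hu u1 (fun e => u2 (e ▸ hz)) ⟨hw.2, hw.1⟩ with e | e | e | e
  exacts [(w1 e).elim, (w2 (e ▸ hz)).elim, (u1 (zpowers_eq_bot.1 (h.nn _ (zpowers_le.2 (h.p1.QT hu.1))
    (norm_zpowers u3) (norm_zpowers (e ▸ w3))))).elim, e]

theorem NQ (pT : PiG {2} T) (h1 : B ≤ T) (h2 : T ≤ N[Q₁]) : T = B := by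
  have q0 : Q₁ ≠ ⊥ := fun e => h.W0 k (eq_bot_iff.2 ((h.Wle k).trans e.le))
  obtain ⟨a, b⟩ := h.bb (O_pig _ _) q0 (O_norm _ _) h2 pT h1
  refine le_antisymm (fun t i => a ⟨i, by_contra fun j => ?_⟩) h1
  have n2 : t ∈ N[Q₂] := mem_N_of_cj_le ((h.ea (cj_le_of_mem h.p2.QT (b i)) (h.symm.ab.cj t)).resolve_left fun l =>
    h.nQQ (cj_le_cj.1 (l.trans (cj_of_mem_N (h2 i)).ge)))
  have nD : t ∈ N[Q₁ ⊓ Q₂] := normI (zpowers_le.2 (h2 i)) (zpowers_le.2 n2) (mem_zpowers t)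
  have c : #(Q₁ ⊓ Q₂) ≠ 2 := fun c =>
    j ((pig_zpowers.2 (pT.elt i)).cent_of_prime ZN.p2 c (zpowers_le.2 nD) (mem_zpowers t))
  obtain ⟨c4, u, u0, u1, u2, u3, -⟩ := h.ex_z k c
  obtain ⟨-, w, w0, w1, w2, w3, -⟩ := h.symm.ex_z k' (inf_comm Q₁ _ ▸ c)
  obtain ⟨z, z1, z2⟩ := exists_mem_ne_one (ne_bot_of_prime (by rw [h.cR k]; exact ZN.p2) : ⁅B, B⁆ ≠ ⊥)
  have zD : z ∈ Q₁ ⊓ Q₂ := ⟨h.CD ⟨der_le B z1, ((h.der k).ge z1).2⟩, h.symm.CD ⟨der_le B z1, ((h.der k).ge z1).2⟩⟩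
  have e := four_cj (h.ab.of_le (inf_le_left (b := Q₂))) c4 zD z2 u0 u1 (fun e => u2 (e ▸ z1)) nD (h.fix k z1 (b i)) j
  rw [← h.two k k' u0 u1 u2 u3 w0 w1 w2 w3 c4 z1 z2] at e
  have pw := pig_zpowers.2 ((O_pig _ _).elt w0.1)
  have nw : N[zpowers w] ≤ C1[w] := by
    rw [← C_zpowers]
    exact relIndex_eq_one.1 (by simpa using idx_cent_prime ZN.p2 (card_zpowers_of_pow ZN.p2 (h.symm.ab.pow w w0.1) w1) le_rfl)
  have o : O[{2}](N[zpowers w]) ≤ B := by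
    obtain ⟨S, s1, s2⟩ := syl_superset ZN.p2 (h.p2.le.trans (norm_zpowers w3)) h.p1.pig
    exact s1.O_le.trans (h.symm.cz k' w0 w1 w2 w3 s1.pi s2 (s1.le.trans nw)).le
  have o2 := h.p2.le_Q o ((norm_zpowers w3).trans (O_norm _ _))
  have p := h.p1.cj t
  rw [cj_of_mem_N (b i)] at p
  have o1 := p.le_Q o ((norm_zpowers (e ▸ cj_C1 t u ▸ cj_mono t u3)).trans (O_norm _ _))
  rw [← cj_O, cj_of_mem_N (h2 i)] at o1
  exact h.p1.not_le (((le_inf (h.p2.le.trans (norm_zpowers w3)) (cent_symm ((le_inf o1 o2).trans h.DC))).trans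
    (h.ch _ pw (by rwa [Ne, zpowers_eq_bot]))).trans o1)

theorem BW : B ⊓ C[W₁] = Q₁ := (eq_or_eq_of_relIndex_prime (by rw [h.p1.idxQ]; exact ZN.p2)
  (le_inf h.p1.QT (centSS h.ab.abel le_rfl (h.Wle k))) inf_le_left).resolve_right fun e =>
    h.WC k (cent_symm (e.ge.trans inf_le_right))

theorem NW : C[W₁] ≤ Q₁ ∧ N[W₁] ≤ P₁ := by
  have pW := (h.Wab k).pig ZN.p2
  obtain ⟨S, s1, s2⟩ := syl_superset ZN.p2 (h.p1.le.trans (h.nW k)) h.p1.pig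
  have b := (h.bb pW (h.W0 k) (h.nW k) s1.le s1.pi s2).2
  have e := h.NQ k k' s1.pi s2 (h.BW k k' ▸ normI b (normC s1.le))
  have o := h.p1.le_Q (s1.O_le.trans e.le) ((h.nW k).trans (O_norm _ _))
  have c := h.ch _ pW (h.W0 k)
  have o' : O[{2}](N[W₁]) = Q₁ := le_antisymm o ((le_inf ((O_le _ _).trans (h.nW k)) (centSS h.ab.abel le_rfl o)).trans c)
  have n := O_norm {2} N[W₁]
  rw [o'] at c n
  have a : C[W₁] ≤ Q₁ := o' ▸ le_O (C_le_N _) (normC le_rfl) (pig_of_prime_elts fun y y1 y2 => by_contra fun y3 => by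
    have y4 := zpowers_le.2 (C_le_N _ y1)
    have := c ⟨C_le_N _ y1, cent_symm (cop_stable (by
      rw [card_zpowers', h.Wcard k]; exact ((Nat.coprime_primes y2 ZN.p2).2 y3).pow_right 2)
      (h.QW k (y4.trans n) y4) (cent_symm (zpowers_le.2 y1))) (mem_zpowers y)⟩
    exact y3 ((pin_prime y2).1 ((O_pig _ _).elt this)))
  refine ⟨a, (eq_of_card_le (h.nW k) ?_).ge⟩
  rw [← card_mul_relIndex (C_le_N W₁), h.p1.card, mul_comm]
  exact Nat.mul_le_mul (Nat.le_of_dvd (by decide) (idx_cent_rank2 ZN.p2 (h.Wab k)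
    (pRank_le_of_card ZN.p2 (h.Wcard k)) le_rfl)) (card_le a)

theorem WW : W₁ ⊓ W₂ = ⁅B, B⁆ := le_antisymm (le_of_le_of_eq (le_inf inf_le_left ((inf_le_inf (h.Wle k)
  (h.symm.Wle k')).trans h.DC)) (h.der k)) (le_inf ((h.der k).ge.trans inf_le_left) ((h.symm.der k').ge.trans inf_le_left))
theorem EB : W₁ ⊔ W₂ ≤ B := sup_le (h.WB k) (h.symm.WB k')
theorem n21 : W₂ ≤ N[W₁] := (h.symm.WB k').trans (h.p1.le.trans (h.nW k))
theorem cE : #(W₁ ⊔ W₂) = 8 := by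
  have := (isProd_l (h.n21 k k')).card
  rw [h.WW k k', h.cR k, h.Wcard k, h.symm.Wcard k'] at this; omega
theorem EQ : (W₁ ⊔ W₂) ⊓ Q₁ ≤ W₁ := by
  rw [modl_l (h.n21 k k') (h.Wle k)]
  exact sup_le le_rfl ((le_of_le_of_eq (le_inf inf_le_left ((inf_le_inf_right _ (h.symm.Wle k')).trans h.symm.DC))
    (h.symm.der k')).trans ((h.WW k k').ge.trans inf_le_left))
theorem Econj (hz : z ∈ ⁅B, B⁆) (z1 : z ≠ 1) (h1 : e ∈ W₁ ⊔ W₂) (h2 : e ≠ 1) (h3 : e ^ 2 = 1) : ∃ g, g * z * g⁻¹ = e := by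
  rcases h.inv (h.EB k k' h1) h3 with i | i
  · exact (h.conj k hz z1 (h.EQ k k' ⟨h1, i⟩) h2).imp fun g a => a.2
  · exact (h.symm.conj k' hz z1 (h.symm.EQ k' k ⟨sup_comm W₁ W₂ ▸ h1, i⟩) h2).imp fun g a => a.2

theorem nconj (hu : u ∈ Q₁ ⊓ Q₂) (u1 : u ≠ 1) (u2 : u ∉ ⁅B, B⁆) (u3 : P₁ ≤ C1[u]) (hz : z ∈ ⁅B, B⁆) :
    g * u * g⁻¹ ≠ z := fun e => by
  have s : Syl 2 B C1[u] := syl_of_max ZN.p2 (h.p1.le.trans u3) h.p1.pig fun T a b c => h.cz k hu u1 u2 u3 a c b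
  have s' := s.cj g
  rw [cj_C1, e] at s'
  have nz : N[B] ≤ C1[z] := fun y i => mem_C1.2 (mul_inv_eq_iff_eq_mul.1 (h.fix k hz i))
  obtain ⟨c, c1, c2⟩ := Syl.conj s' ZN.p2 (s'.of_card ((normG B).trans nz) (card_cj g B).symm)
  rw [← cj_mul, ← mem_N_iff_cj] at c2
  refine u2 ((mem_N.1 (normD (le_refl N[B]) c2) u).2 ?_)
  rw [show c * g * u * (c * g)⁻¹ = c * (g * u * g⁻¹) * c⁻¹ by group, e, mem_C1.1 c1, mul_inv_cancel_right]
  exact hz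

theorem memB (pS : PiG {2} S) (BS : B ≤ S) (h1 : y ∈ S) (h2 : y ∈ N[Q₁]) : y ∈ B :=
  (h.NQ k k' (pS.of_le inf_le_left) (le_inf BS h.p1.nQ) inf_le_right).le ⟨h1, h2⟩

theorem swap (pS : PiG {2} S) (BS : B ≤ S) (h0 : y ∈ S) (h1 : y ∈ N[B]) (h2 : y ∉ B) : cj y Q₁ = Q₂ :=
  eq_of_card_le ((h.ea (cj_le_of_mem h.p1.QT h1) (h.ab.cj y)).resolve_left fun i =>
    h2 (h.memB k k' pS BS h0 (mem_N_of_cj_le i))) (by rw [card_cj, h.cQ])

theorem mulB (pS : PiG {2} S) (BS : B ≤ S) (h1 : y ∈ S ⊓ N[B]) (h2 : y ∉ B) (h3 : t ∈ S ⊓ N[B]) (h4 : t ∉ B) :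
    t * y ∈ B := h.memB k k' pS BS (mul_mem h3.1 h1.1) (by
  rw [mem_N_iff_cj, cj_mul, h.swap k k' pS BS h1.1 h1.2 h2, h.symm.swap k' k pS BS h3.1 h3.2 h4])

theorem nE : B ≤ N[W₁ ⊔ W₂] := norm_of_der_le ((h.WW k k').ge.trans (inf_le_left.trans le_sup_left)) (h.EB k k')

end Am

namespace Am
variable (h : Am P₁ P₂ B) (k : Sd P₁ W₁ x₁) (k' : Sd P₂ W₂ x₂)
  (hu : u ∈ O[{2}](P₁) ⊓ O[{2}](P₂)) (u1 : u ≠ 1) (u2 : u ∉ ⁅B, B⁆) (u3 : P₁ ≤ C1[u]) (u4 : zpowers u ⊔ W₁ = O[{2}](P₁))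
  (hw : w ∈ O[{2}](P₂) ⊓ O[{2}](P₁)) (w1 : w ≠ 1) (w2 : w ∉ ⁅B, B⁆) (w3 : P₂ ≤ C1[w])
  (c : #(O[{2}](P₁) ⊓ O[{2}](P₂)) = 4) (hz : z ∈ ⁅B, B⁆) (z1 : z ≠ 1)
include h k k' hu u1 u2 u3 u4 hw w1 w2 w3 c hz z1

theorem memW (h1 : g * z * g⁻¹ ∈ Q₁) : g * z * g⁻¹ ∈ W₁ := by
  obtain ⟨a, a1, b, b1, e⟩ := (mem_sup_r ((zpowers_le.2 (h.p1.le (h.p1.QT hu.1))).trans (h.nW k))).1 (u4.ge h1)
  rcases mem_two (card_zpowers_of_pow ZN.p2 (h.ab.pow u hu.1) u1) (mem_zpowers u) u1 a1 with rfl | rfl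
  · rwa [e, one_mul]
  by_cases i : b = 1
  · exact (h.nconj k k' (g := g⁻¹) hu u1 u2 u3 hz (by rw [i, mul_one] at e; rw [← e]; group)).elim
  obtain ⟨f, f1, rfl⟩ := h.conj k hz z1 b1 i
  refine (h.symm.nconj k' k (g := g⁻¹ * f) hw w1 w2 w3 hz ?_).elim
  rw [h.two k k' hu u1 u2 u3 hw w1 w2 w3 c hz z1]
  calc _ = g⁻¹ * ((f * z * f⁻¹) * (f * a * f⁻¹)) * g := by group
    _ = z := by
      rw [mem_C1.1 (u3 f1), mul_inv_cancel_right, ← mem_C_comm h.ab.abel hu.1 (h.Wle k b1), ← e]; group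

theorem normB (pS : PiG {2} S) (BS : B ≤ S) : S ≤ N[B] := by
  have key : ∀ A ≤ S ⊓ N[B], Abelem 2 A → #A = 8 → A ≤ B := fun A a b d y y1 => by_contra fun y2 => by
    have i : B.relIndex A = 2 := relIndex_eq_two_iff_exists_notMem_and.2 ⟨y, y1, y2, fun t t1 =>
      or_iff_not_imp_right.2 (h.mulB k k' pS BS (a y1) y2 (a t1))⟩
    have j := card_inf_mul_relIndex B A
    rw [i, d] at j
    have f : ∀ e ∈ A, y * e * y⁻¹ = e := fun e e1 => by rw [mem_C_comm b.abel y1 e1, mul_inv_cancel_right]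
    have l : B ⊓ A ≤ Q₁ ⊓ Q₂ := fun e e1 => (h.inv e1.1 (b.pow e e1.2)).elim
      (fun i => ⟨i, h.swap k k' pS BS (a y1).1 (a y1).2 y2 ▸ f e e1.2 ▸ mem_cj_conj.2 i⟩)
      fun i => ⟨h.symm.swap k' k pS BS (a y1).1 (a y1).2 y2 ▸ f e e1.2 ▸ mem_cj_conj.2 i, i⟩
    have m := ((eq_of_card_le l (by omega)).ge hu).2
    exact y2 ((h.cz k hu u1 u2 u3 (pS.of_le (inf_le_left (b := C1[u]))) (le_inf BS (h.p1.le.trans u3)) inf_le_right).le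
      ⟨(a y1).1, mem_C1.2 (mem_C_comm b.abel y1 m)⟩)
  have q := h.cQD
  have q' := h.cQ
  have l := le_inf BS (normG B)
  refine (pS.nil.eq_of_norm inf_le_left fun g i => ⟨i.1, mem_N_of_cj_le ?_⟩).ge.trans inf_le_right
  refine (cj_mono g h.supQ.ge).trans ((cj_sup _ _ _).le.trans (sup_le
    (key _ (cj_le_of_mem (h.p2.QT.trans l) i.2) (h.symm.ab.cj g) ?_)
    (key _ (cj_le_of_mem (h.p1.QT.trans l) i.2) (h.ab.cj g) ?_))) <;> rw [card_cj] <;> omega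

theorem idxE : (W₁ ⊔ W₂).relIndex B = 2 := by
  have a := card_mul_relIndex (h.EB k k')
  have b := card2 h.p1.idxQ h.p1.QT
  have d := h.cQD
  rw [h.cE k k'] at a; omega

theorem uE : g * u * g⁻¹ ∉ W₁ ⊔ W₂ := fun i => by
  obtain ⟨f, a⟩ := h.Econj k k' hz z1 i (by simpa using u1) (by rw [conj_pow, h.ab.pow u hu.1]; group)
  exact h.nconj k k' (g := f⁻¹ * g) hu u1 u2 u3 hz (by
    rw [show f⁻¹ * g * u * (f⁻¹ * g)⁻¹ = f⁻¹ * (g * u * g⁻¹) * f by group, ← a]; group)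

theorem swapW (pS : PiG {2} S) (BS : B ≤ S) (h0 : y ∈ S) (h2 : y ∉ B) : cj y W₂ ≤ W₁ := fun x i => by
  obtain ⟨b, b1, rfl⟩ := exists_of_mem_cj i
  by_cases e : b = 1
  · simp [e]
  obtain ⟨f, -, rfl⟩ := h.symm.conj k' hz z1 b1 e
  rw [show y * (f * z * f⁻¹) * y⁻¹ = y * f * z * (y * f)⁻¹ by group] at i ⊢
  refine h.memW k k' hu u1 u2 u3 u4 hw w1 w2 w3 c hz z1 ?_
  rw [← h.symm.swap k' k pS BS h0 (h.normB k k' hu u1 u2 u3 u4 hw w1 w2 w3 c hz z1 pS BS h0) h2]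
  exact cj_mono y (h.symm.Wle k') i

theorem not_mem (w4 : zpowers w ⊔ W₂ = Q₂) : u ∉ OO G := by
  obtain ⟨S, hS, BS⟩ := syl_superset ZN.p2 le_top h.p1.pig
  have nB := h.normB k k' hu u1 u2 u3 u4 hw w1 w2 w3 c hz z1 hS.pi BS
  have s1 := fun y => h.swapW k k' hu u1 u2 u3 u4 hw w1 w2 w3 c hz z1 hS.pi BS (y := y)
  have s2 := fun y => h.symm.swapW k' k hw w1 w2 w3 w4 hu u1 u2 u3 (inf_comm Q₁ _ ▸ c) hz z1 hS.pi BS (y := y)
  have iE := h.idxE k k' hu u1 u2 u3 u4 hw w1 w2 w3 c hz z1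
  have uE := fun g => h.uE k k' hu u1 u2 u3 u4 hw w1 w2 w3 c hz z1 (g := g)
  have uE1 : u ∉ W₁ ⊔ W₂ := by simpa using uE 1
  have EB := h.EB k k'
  have uB := h.p1.QT hu.1
  have su := h.ab.pow u hu.1
  have mB := fun y (a : y ∈ S) b t (d : t ∈ S) => h.mulB k k' hS.pi BS (y := y) (t := t) ⟨a, nB a⟩ b ⟨d, nB d⟩
  have nE : S ≤ N[W₁ ⊔ W₂] := fun y a => by
    by_cases b : y ∈ B
    · exact h.nE k k' b
    exact mem_N_of_cj_le ((cj_sup _ _ _).le.trans (sup_le ((s2 y a b).trans le_sup_right) ((s1 y a b).trans le_sup_left)))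
  have cB : ⁅B, S⁆ ≤ W₁ ⊔ W₂ := comm2 iE nE nB
  have dS : ⁅S, S⁆ ≤ W₁ ⊔ W₂ := comm_le_iff.2 fun a a1 b b1 => by
    by_cases i : a ∈ B
    · exact cB (comm_mem i b1)
    by_cases j : b ∈ B
    · exact cB ((commC _ _).le (comm_mem a1 j))
    have := cB (comm_mem (mB _ (inv_mem b1) (by rwa [inv_mem_iff]) a a1 i) b1)
    rwa [show a * b⁻¹ * b * (a * b⁻¹)⁻¹ * b⁻¹ = a * b * a⁻¹ * b⁻¹ by group] at this
  have inB : ∀ g, g * u * g⁻¹ ∈ B → u⁻¹ * (g * u * g⁻¹) ∈ W₁ ⊔ W₂ := fun g i =>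
    mul2 iE (inv_mem uB) i (by rwa [inv_mem_iff]) (uE g)
  by_cases ex : ∃ y ∈ S, y ∉ B ∧ y ^ 2 = 1
  swap
  · refine transfer hS (EB.trans BS) dS (BS uB) su uE1 fun g i => inB g (by_contra fun j => ex ⟨_, i, j, ?_⟩)
    rw [conj_pow, su]; group
  obtain ⟨y, y1, y2, y3⟩ := ex
  have iy : y⁻¹ = y := inv_eq_of_mul_eq_one_right (by rw [← pow_two, y3])
  have yy : y * y = 1 := by rw [← pow_two, y3]
  have zD : z ∈ Q₁ ⊓ Q₂ := ⟨h.CD ⟨der_le B hz, ((h.der k).ge hz).2⟩, h.symm.CD ⟨der_le B hz, ((h.der k).ge hz).2⟩⟩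
  have yu : y * u * y⁻¹ = z * u := by
    refine four_cj (h.ab.of_le (inf_le_left (b := Q₂))) c zD z1 hu u1 (fun e => u2 (e ▸ hz))
      (mem_N_of_cj_le ?_) (h.fix k hz (nB y1)) fun i => y2 ?_
    · rw [cj_inf, h.swap k k' hS.pi BS y1 (nB y1) y2, h.symm.swap k' k hS.pi BS y1 (nB y1) y2, inf_comm]
    · exact (h.cz k hu u1 u2 u3 (hS.pi.of_le (inf_le_left (b := C1[u]))) (le_inf BS (h.p1.le.trans u3)) inf_le_right).le
        ⟨y1, C_le_C1 hu i⟩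
  have uu : u * u = 1 := by rw [← pow_two, su]
  have vv : (y * u) ^ 2 = z := by
    calc _ = (y * u * y⁻¹) * u := by rw [iy, pow_two]; group
      _ = z := by rw [yu, mul_assoc, uu, mul_one]
  have vS := mul_mem y1 (BS uB)
  have vB : y * u ∉ B := fun i => y2 (by simpa using mul_mem i (inv_mem uB))
  have zE : z ∈ W₁ ⊔ W₂ := mem_sup_left ((h.der k).ge hz).1
  have nv := zpowers_le.2 (nE vS)
  refine transfer hS (sup_le (EB.trans BS) (zpowers_le.2 vS)) (dS.trans le_sup_left) (BS uB) su (fun i => ?_) fun g i => ?_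
  · obtain ⟨e, e1, _, ⟨n, rfl⟩, e2⟩ := (mem_sup_l nv).1 i
    have f : ∀ m : ℤ, (y * u) ^ (2 * m) ∈ W₁ ⊔ W₂ := fun m => by
      rw [zpow_mul, zpow_two, ← pow_two, vv]; exact zpow_mem zE m
    rcases Int.even_or_odd' n with ⟨m, rfl | rfl⟩
    · exact uE1 (e2 ▸ mul_mem e1 (f m))
    · simp only [zpow_add, zpow_one] at e2
      exact vB ((mul_mem_cancel_left (EB (mul_mem e1 (f m)))).1 (mul_assoc e _ _ ▸ e2 ▸ uB))
  by_cases j : g * u * g⁻¹ ∈ B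
  · exact mem_sup_left (inB g j)
  have j1 := mB _ (inv_mem vS) (by rwa [inv_mem_iff]) _ i j
  have j2 : g * u * g⁻¹ * (y * u)⁻¹ ∉ W₁ ⊔ W₂ := fun l => by
    obtain ⟨a, a1, b, b1, l⟩ := (mem_sup_l (h.n21 k k')).1 l
    have l2 : (a * b * (y * u)) ^ 2 = 1 := by rw [← l, inv_mul_cancel_right, conj_pow, su]; group
    have a2 := s2 y y1 y2 (mem_cj_conj.2 a1)
    have b2 := s1 y y1 y2 (mem_cj_conj.2 b1)
    have cu : ∀ x ∈ B, x * u = u * x := mem_C.1 (h.DC hu)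
    have cz : ∀ x ∈ B, x * z = z * x := mem_C.1 (h.DC zD)
    have aB := h.WB k a1
    have bB := h.symm.WB k' b1
    have a2B := h.symm.WB k' a2
    have b2B := h.WB k b2
    have zz : z * z = 1 := by rw [← pow_two, h.ab.pow z zD.1]
    have l3 : a * (b * (y * a * y⁻¹)) * (y * b * y⁻¹) = z := by
      have : a * b * (z * u) * (y * a * y⁻¹) * (y * b * y⁻¹) * u = 1 := by
        rw [← l2, ← yu, pow_two]
        calc _ = a * b * (y * u) * (a * b) * y⁻¹ * u := by group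
          _ = _ := by rw [iy]; group
      have m := mul_mem a2B b2B
      rw [← mul_right_inj z, zz, ← this]
      calc _ = (z * (a * b)) * ((y * a * y⁻¹) * (y * b * y⁻¹)) * (u * u) := by rw [uu]; group
        _ = a * b * z * (((y * a * y⁻¹) * (y * b * y⁻¹)) * u) * u := by rw [← cz _ (mul_mem aB bB)]; group
        _ = _ := by rw [cu _ m]; group
    have l4 : b * (y * a * y⁻¹) ∈ ⁅B, B⁆ := (h.WW k k').le (mem_inf.2 ⟨by
      rw [show b * (y * a * y⁻¹) = a⁻¹ * z * (y * b * y⁻¹)⁻¹ by rw [← l3]; group]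
      exact mul_mem (mul_mem (inv_mem a1) (mem_inf.1 ((h.der k).ge hz)).1) (inv_mem b2), mul_mem b1 a2⟩)
    have l5 := h.fix k l4 (nB y1)
    have l6 : a * (y * b * y⁻¹) = b * (y * a * y⁻¹) := by
      rw [← l5, mem_C_comm (h.Wab k).abel a1 b2]
      calc _ = y * b * y⁻¹ * ((y * y) * a * (y * y)⁻¹) := by rw [yy]; group
        _ = _ := by group
    refine z1 ?_
    rw [← l3, mem_C.1 ((h.der k).ge l4).2 a aB, mul_assoc, l6, ← pow_two]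
    exact (h.symm.Wab k').pow _ (mul_mem b1 a2)
  have := mul_mem_sup' (mul2 iE (inv_mem uB) j1 (by rwa [inv_mem_iff]) j2) (mem_zpowers (y * u))
  rwa [mul_assoc, inv_mul_cancel_right] at this

end Am

namespace Am
variable (h : Am P₁ P₂ B) (k : Sd P₁ W₁ x₁) (k' : Sd P₂ W₂ x₂)
include h k k'

theorem HB : OO G ⊓ B = W₁ ⊔ W₂ := by
  have l : W₁ ⊔ W₂ ≤ OO G ⊓ B := le_inf (sup_le (h.WH k) (h.symm.WH k')) (h.EB k k')
  by_cases c : #(Q₁ ⊓ Q₂) = 2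
  · refine le_antisymm (inf_le_right.trans (eq_of_card_le (h.EB k k') ?_).ge) l
    rw [h.cE k k', card2 h.p1.idxQ h.p1.QT, h.cQD, c]
  obtain ⟨c4, u, u0, u1, u2, u3, u4⟩ := h.ex_z k c
  obtain ⟨-, w, w0, w1, w2, w3, w4⟩ := h.symm.ex_z k' (inf_comm Q₁ _ ▸ c)
  obtain ⟨z, z1, z2⟩ := exists_mem_ne_one (ne_bot_of_prime (by rw [h.cR k]; exact ZN.p2) : ⁅B, B⁆ ≠ ⊥)
  refine (eq_or_eq_of_relIndex_prime (by
    rw [h.idxE k k' u0 u1 u2 u3 u4 w0 w1 w2 w3 c4 z1 z2]; exact ZN.p2) l inf_le_right).resolve_right fun e => ?_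
  exact h.not_mem k k' u0 u1 u2 u3 u4 w0 w1 w2 w3 c4 z1 z2 w4 (e.ge (h.p1.QT u0.1)).1

theorem HQ : OO G ⊓ Q₁ ≤ W₁ :=
  (le_inf ((inf_le_inf_left _ h.p1.QT).trans (h.HB k k').le) inf_le_right).trans (h.EQ k k')

theorem cH : #(OO G ⊓ P₁) = 24 := by
  have n : B ≤ N[OO G ⊓ P₁] := normI (nOO _) (normsG h.p1.le)
  have := (isProd_of_r n (h.p1.sup inf_le_right fun i => not_mem_of_three h.p1.pig k.ox (i ⟨xH k, k.xP⟩))).relIndex
  rw [← card_inf_mul_relIndex B, ← this, h.p1.idx, inf_comm B, inf_assoc, inf_eq_right.2 h.p1.le, h.HB k k', h.cE k k']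

theorem iso : Nonempty (↥(OO G ⊓ P₁) ≃* Equiv.Perm (Fin 4)) := by
  refine S1012.result (h.cH k k') fun g o => ?_
  rw [← Subgroup.orderOf_coe] at o
  obtain ⟨g, g1, g2⟩ := g
  simp only at o
  have o2 : orderOf (g ^ 2) = 3 := by rw [orderOf_pow, o]; rfl
  have o3 : orderOf (g ^ 3) = 2 := by rw [orderOf_pow, o]; rfl
  have cm : g ^ 2 * g ^ 3 = g ^ 3 * g ^ 2 := by group
  have c3 : #(zpowers (g ^ 3)) = 2 := by rw [card_zpowers', o3]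
  obtain ⟨T, t1, t2⟩ := syl_superset ZN.p2 (zpowers_le.2 (pow_mem g2 3)) (pig_of_card' ZN.p2 c3)
  have p := h.p1.conj t1
  have q : zpowers (g ^ 3) ≤ Q₁ := by_contra fun i => not_mem_of_three p.pig o2 (p.normT ⟨pow_mem g2 2, by
    rw [← p.supQ t2 i]
    exact normY (norm_zpowers (zpowers_le.2 (mem_C1.2 cm))) (zpowers_le.2 (O_norm _ _ (pow_mem g2 2))) (mem_zpowers _)⟩)
  have q' := (le_inf (zpowers_le.2 (pow_mem g1 3)) q).trans (h.HQ k k')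
  have n := norm_zpowers (zpowers_le.2 (mem_C1.2 cm))
  refine not_mem_of_three (O_pig _ _) o2 ((h.NW k k').1 (cent_symm (cop_stable (cop3 (pig_of_card' ZN.p2 c3) o2)
    (comm2 (line_idx (h.Wcard k) q' c3) n (zpowers_le.2 (h.nW k (pow_mem g2 2)))) ?_) (mem_zpowers _)))
  rw [C_zpowers]; exact zpowers_le.2 (mem_C1'.2 cm)

theorem uniq (pU : PiG {2} U) (u0 : U ≠ ⊥) (h1 : U ≤ OO G) (h2 : OO G ⊓ P₁ ≤ N[U]) : U = W₁ := by
  have E := (le_inf ((h.HB k k').ge.trans inf_le_left) ((h.EB k k').trans h.p1.le)).trans h2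
  obtain ⟨z, z1, z2⟩ := exists_mem_ne_one ((pU.of_le inf_le_left).meet_C (h.p1.pig.of_le (h.EB k k')) (normZ E)
    (pU.nil.Z_ne_bot u0))
  have a := h.HQ k k' ⟨h1 z1.1.1, (h.NW k k').1 (centS le_sup_left z1.2)⟩
  have b := h.symm.HQ k' k ⟨h1 z1.1.1, (h.symm.NW k' k).1 (centS le_sup_right z1.2)⟩
  have n := normZ h2 ⟨xH k, k.xP⟩
  have l : W₁ ≤ Z[U] := by
    refine (line_sup (p := 2) (h.Wcard k) (zpowers_le.2 a) (card_zpowers_of_pow ZN.p2 ((h.Wab k).pow z a) z2)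
      (h.nW k k.xP) fun i => z2 (mem_bot.1 ((h.fp k).le (mem_inf.2 ⟨a, ?_⟩)))).trans
      (sup_le (zpowers_le.2 z1.1) (cj_le_of_mem (zpowers_le.2 z1.1) n))
    have := idx_cent_prime ZN.p2 (card_zpowers_of_pow ZN.p2 ((h.Wab k).pow z a) z2) (zpowers_le.2 i)
    exact cent_symm (relIndex_eq_one.1 (by simpa using this)) (mem_zpowers z)
  exact le_antisymm ((le_inf h1 ((cent_symm (l.trans inf_le_right)).trans (h.NW k k').1)).trans (h.HQ k k'))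
    (l.trans inf_le_left)

theorem maxl : IsMaximalTwoLocal (P₁.subgroupOf (OO G)) := by
  have e : N[W₁] = P₁ := le_antisymm (h.NW k k').2 (h.nW k)
  have a : P₁.subgroupOf (OO G) = N[W₁.subgroupOf (OO G)] := by rw [← subgroupOf_normalizer_eq (h.WH k), e]
  refine ⟨⟨_, (((h.Wab k).pig ZN.p2).pg ZN.p2).comap_subtype, fun i => h.W0 k ?_, a⟩, ?_⟩
  · exact (subgroupOf_eq_bot.1 i).eq_bot_of_le (h.WH k)
  rintro _ ⟨U, u1, u2, rfl⟩ i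
  have := h.uniq k k' (U := U.map (OO G).subtype) ((pig_of_pg ZN.p2 u1).map _)
    (by rwa [Ne, map_eq_bot_iff_of_injective _ (subtype_injective _)]) (map_subtype_le _) (by
      rw [inf_comm, ← subgroupOf_map_subtype]; exact norm_map i _)
  rw [a, ← this, subgroupOf, comap_map_eq_self_of_injective (subtype_injective _)]

end Am

theorem Am.concl (h : Am P₁ P₂ B) : ∃ M₁ M₂ : Subgroup (OO G), M₁ ≠ M₂ ∧ IsMaximalTwoLocal M₁ ∧ IsMaximalTwoLocal M₂ ∧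
    Nonempty (M₁ ≃* Equiv.Perm (Fin 4)) ∧ Nonempty (M₂ ≃* Equiv.Perm (Fin 4)) ∧ Nat.card ↥(M₁ ⊓ M₂) = 8 := by
  obtain ⟨W₁, x₁, k⟩ := h.p1.sd
  obtain ⟨W₂, x₂, k'⟩ := h.p2.sd
  have cd : ∀ X : Subgroup G, Nonempty (X.subgroupOf (OO G) ≃* ↥(OO G ⊓ X)) := fun X => by
    rw [← inf_subgroupOf_left]; exact ⟨subgroupOfEquivOfLe inf_le_left⟩
  have e : P₁ ⊓ P₂ = B := (h.p1.max (le_inf h.p1.le h.p2.le) inf_le_left).resolve_right fun e =>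
    h.nQQ (by rw [(h.p2.max h.p1.le (e.ge.trans inf_le_right)).resolve_left fun i => h.p1.not_norm (i ▸ normG _)])
  have c : #(P₁.subgroupOf (OO G) ⊓ P₂.subgroupOf (OO G)) = 8 := by
    obtain ⟨f⟩ := cd B
    rw [subgroupOf, subgroupOf, ← comap_inf, e]
    exact (Nat.card_congr f.toEquiv).trans (by rw [h.HB k k', h.cE k k'])
  obtain ⟨f1⟩ := cd P₁
  obtain ⟨f2⟩ := cd P₂
  obtain ⟨g1⟩ := h.iso k k'
  obtain ⟨g2⟩ := h.symm.iso k' k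
  refine ⟨_, _, fun i => ?_, h.maxl k k', h.symm.maxl k' k, ⟨f1.trans g1⟩, ⟨f2.trans g2⟩, c⟩
  rw [← i, inf_idem, Nat.card_congr f1.toEquiv, h.cH k k'] at c
  omega

end Cfsg.Agent.ZN
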