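import Cfsg.Agent.Fac.Push
/-! Minimal parabolic subgroups of type `S₃` in characteristic 2. -/
set_option autoImplicit false
set_option linter.unusedSectionVars false
set_option linter.unusedVariables false

namespace Cfsg.Agent.ZN
open Subgroup Cfsg.Agent.BG

universe u
variable {G : Type u} [Group G] [Finite G] {A B D K N P P' Q T T' U V W X Y : Subgroup G} {g x y t : G}

theorem p2 : Nat.Prime 2 := Nat.prime_two

theorem mul2 (h : D.relIndex T = 2) (ha : x ∈ T) (hb : y ∈ T) (ha' : x ∉ D) (hb' : y ∉ D) : x * y ∈ D :=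
  (mul_mem_iff_of_index_two h (a := ⟨x, ha⟩) (b := ⟨y, hb⟩)).2 (by simp [mem_subgroupOf, ha', hb'])

theorem sup2 (h : D.relIndex T = 2) (hD : D ≤ T) (hX : X ≤ T) (n : ¬ X ≤ D) : X ⊔ D = T :=
  (eq_or_eq_of_relIndex_prime (h ▸ p2) le_sup_right (sup_le hX hD)).resolve_left fun e => n (le_sup_left.trans e.le)

theorem idx2 (h : D.relIndex T = 2) (hD : T ≤ N[D]) (hX : X ≤ T) (n : ¬ X ≤ D) : D.relIndex X = 2 := by
  have a : D.relIndex X ∣ 2 := by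
    have := relIndex_dvd_of_norm (A := D ⊓ T) inf_le_right hX (normI (hX.trans hD) (normsG hX))
    rwa [inf_relIndex_right, h, ← inf_relIndex_right, inf_assoc, inf_eq_right.2 hX, inf_relIndex_right] at this
  exact ((Nat.dvd_prime p2).1 a).resolve_left fun e => n (relIndex_eq_one.1 e)

theorem comm2 (h : D.relIndex T = 2) (h1 : X ≤ N[D]) (h2 : X ≤ N[T]) : ⁅T, X⁆ ≤ D :=
  comm_le_iff.2 fun a ha b hb => by
    have e : a * b * a⁻¹ * b⁻¹ = a * (b * a⁻¹ * b⁻¹) := by group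
    rw [e]
    by_cases c : a ∈ D
    · exact mul_mem c (conj_mem (h1 hb) (inv_mem c))
    · exact mul2 h ha (conj_mem (h2 hb) (inv_mem ha)) c fun i => c (inv_mem_iff.1 ((mem_N.1 (h1 hb) _).2 i))

theorem card2 (h : D.relIndex T = 2) (hD : D ≤ T) : #T = 2 * #D := by rw [← card_mul_relIndex hD, h, mul_comm]

theorem mem_OmZ : x ∈ Ω[2](Z[T]) ↔ x ∈ T ∧ x ∈ C[T] ∧ x ^ 2 = 1 := by
  rw [(abel_Z T).mem_Om, mem_inf, and_assoc]

theorem le_OmZ (h1 : A ≤ T) (h2 : A ≤ C[T]) (h3 : Abelem 2 A) : A ≤ Ω[2](Z[T]) := h3.le_Om (le_inf h1 h2)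

/-- the subgroup generated by the `Ω₁(Z(T))`, `T` a Sylow `2`-subgroup -/
def ZZ (P : Subgroup G) : Subgroup G := ⨆ T : {T // Syl 2 T P}, Ω[2](Z[T.1])

theorem le_ZZ (h : Syl 2 T P) : Ω[2](Z[T]) ≤ ZZ P := le_iSup (fun T : {T // Syl 2 T P} => Ω[2](Z[T.1])) ⟨T, h⟩

theorem cj_OmZ (g : G) (T : Subgroup G) : cj g Ω[2](Z[T]) = Ω[2](Z[cj g T]) := by rw [cj_Om, cj_inf, cj_C]

theorem cj_ZZ_le (g : G) (P : Subgroup G) : cj g (ZZ P) ≤ ZZ (cj g P) :=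
  cj_le_iff.2 (iSup_le fun T => cj_le_iff.1 (cj_OmZ g T.1 ▸ le_ZZ (T.2.cj g)))

theorem cj_ZZ (g : G) (P : Subgroup G) : cj g (ZZ P) = ZZ (cj g P) :=
  le_antisymm (cj_ZZ_le g P) (le_cj_iff.2 ((cj_ZZ_le g⁻¹ _).trans (by rw [cj_inv_cj])))

theorem normZZ (h : X ≤ N[P]) : X ≤ N[ZZ P] := norm_fun ZZ cj_ZZ h

/-- `P / O₂(P) ≅ S₃`, characteristic `2`, and `Ω₁(Z(T))` is not central -/
structure Par (P T : Subgroup G) : Prop where
  le : T ≤ P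
  pig : PiG {2} T
  idx : T.relIndex P = 3
  idxQ : O[{2}](P).relIndex T = 2
  ch : P ⊓ C[O[{2}](P)] ≤ O[{2}](P)
  nc : ¬ P ≤ C[Ω[2](Z[T])]

namespace Par
variable (h : Par P T)
include h

theorem syl : Syl 2 T P := syl_mk p2 h.le h.pig (by rw [h.idx]; decide)
theorem QT : O[{2}](P) ≤ T := h.syl.O_le
theorem nQ : T ≤ N[O[{2}](P)] := h.le.trans (O_norm _ _)
theorem max (h1 : T ≤ X) (h2 : X ≤ P) : X = T ∨ X = P := eq_or_eq_of_relIndex_prime (h.idx ▸ Nat.prime_three) h1 h2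
theorem sup (h1 : X ≤ P) (h2 : ¬ X ≤ T) : T ⊔ X = P :=
  (h.max le_sup_left (sup_le h.le h1)).resolve_left fun e => h2 (le_sup_right.trans e.le)
theorem not_le : ¬ T ≤ O[{2}](P) := fun e => by have := h.idxQ; rw [relIndex_eq_one.2 e] at this; omega
theorem not_norm : ¬ P ≤ N[T] := fun e => h.not_le (le_O h.le e h.pig)
theorem normT : P ⊓ N[T] ≤ T :=
  ((h.max (le_inf h.le (normG T)) inf_le_left).resolve_right fun e => h.not_norm (e.ge.trans inf_le_right)).le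
theorem supQ (h1 : X ≤ T) (h2 : ¬ X ≤ O[{2}](P)) : X ⊔ O[{2}](P) = T := sup2 h.idxQ h.QT h1 h2
theorem cj (g : G) : Par (cj g P) (cj g T) :=
  ⟨cj_mono g h.le, h.pig.cj g, by rw [relIndex_cj, h.idx], by rw [← cj_O, relIndex_cj, h.idxQ],
    by rw [← cj_O, ← cj_C, ← cj_inf]; exact cj_mono g h.ch, by rw [← cj_OmZ, cent_cj]; exact h.nc⟩
theorem conj (h' : Syl 2 T' P) : Par P T' := by
  obtain ⟨g, a, rfl⟩ := h.syl.conj p2 h'
  simpa [cj_of_mem a] using h.cj g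
theorem inf_le (h' : Par P T') (e : T ≠ T') : T ⊓ T' ≤ O[{2}](P) :=
  ((eq_or_eq_of_relIndex_prime (by rw [h.idxQ]; exact p2) (le_inf h.QT h'.QT) inf_le_left).resolve_right fun i =>
    e (h.syl.eq_of_le h'.syl (i.ge.trans inf_le_right))).le
theorem sup' (h' : Par P T') (e : T ≠ T') (h1 : X ≤ T') (h2 : ¬ X ≤ O[{2}](P)) : T ⊔ X = P :=
  h.sup (h1.trans h'.le) fun i => h2 ((le_inf i h1).trans (h.inf_le h' e))
theorem Om_le : Ω[2](Z[T]) ≤ O[{2}](P) :=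
  (le_inf ((OmZ_le 2 T).trans h.le) ((OmZ_cent 2 T).trans (centS h.QT))).trans h.ch
theorem ZZ_le : ZZ P ≤ Ω[2](Z[O[{2}](P)]) := iSup_le fun S =>
  le_OmZ (h.conj S.2).Om_le ((OmZ_cent 2 _).trans (centS (h.conj S.2).QT)) (OmZ_abelem 2 _)
theorem ab : Abelem 2 (ZZ P) := (OmZ_abelem 2 _).of_le h.ZZ_le
theorem ZQ : ZZ P ≤ O[{2}](P) := h.ZZ_le.trans (OmZ_le 2 _)
theorem ZT : ZZ P ≤ T := h.ZQ.trans h.QT
theorem QC : O[{2}](P) ≤ C[ZZ P] := cent_symm (h.ZZ_le.trans (OmZ_cent 2 _))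
theorem OZ : Ω[2](Z[T]) ≤ ZZ P := le_ZZ h.syl
theorem nZ : P ≤ N[ZZ P] := normZZ (normG P)
theorem le_Q (h1 : K ≤ T) (h2 : P ≤ N[K]) : K ≤ O[{2}](P) := le_O (h1.trans h.le) h2 (h.pig.of_le h1)
theorem cent : P ⊓ C[ZZ P] ≤ O[{2}](P) := by
  refine h.le_Q (by_contra fun i => h.nc ?_) (normI (normG P) (normC h.nZ))
  exact (h.sup inf_le_left i).ge.trans (sup_le (cent_symm (OmZ_cent 2 T)) (inf_le_right.trans (centS h.OZ)))
theorem ZC (h1 : X ≤ T) (h2 : ¬ X ≤ O[{2}](P)) : ZZ P ⊓ C[X] ≤ Ω[2](Z[T]) :=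
  le_OmZ (inf_le_left.trans h.ZT) (h.supQ h1 h2 ▸ centY inf_le_right (inf_le_left.trans (cent_symm h.QC)))
    (h.ab.of_le inf_le_left)
theorem ZC1 (h1 : x ∈ T) (h2 : x ∉ O[{2}](P)) (h3 : y ∈ ZZ P) (h4 : x * y = y * x) : y ∈ Ω[2](Z[T]) :=
  h.ZC (zpowers_le.2 h1) (by rwa [zpowers_le]) ⟨h3, by rw [C_zpowers]; exact mem_C1'.2 h4⟩
theorem Z_ne : ZZ P ≠ ⊥ := fun e => h.nc (cent_symm ((h.OZ.trans e.le).trans bot_le))
theorem R_ne : ⁅ZZ P, T⁆ ≠ ⊥ := fun e => h.not_le ((le_inf h.le (comm_eq_bot'.1 e)).trans h.cent)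
theorem R_le : ⁅ZZ P, T⁆ ≤ ZZ P := commL (h.le.trans h.nZ)
theorem R_eq (h1 : X ≤ T) (h2 : ¬ X ≤ O[{2}](P)) : ⁅ZZ P, X⁆ = ⁅ZZ P, T⁆ := by
  rw [← h.supQ h1 h2]
  exact le_antisymm (commS le_rfl le_sup_left) (comm_sup_le' le_rfl ((comm_eq_bot'.2 h.QC).le.trans bot_le)
    (comm_normr _ _) (cents_norm (h.QC.trans (centS (commL (h1.trans (h.le.trans h.nZ)))))))
theorem nsup (h1 : K ≤ P) (h2 : P ≤ N[K]) (h3 : x ∈ K) (h4 : x ∈ T) (h5 : x ∉ O[{2}](P)) : K ⊔ O[{2}](P) = P := by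
  have a : T ≤ K ⊔ O[{2}](P) := (h.supQ (zpowers_le.2 h4) (by rwa [zpowers_le])).ge.trans
    (sup_le_sup_right (zpowers_le.2 h3) _)
  refine (h.max a (sup_le h1 (O_le _ _))).resolve_left fun e => h.not_norm ?_
  rw [← e]; exact normY h2 (O_norm _ _)
theorem R_le_Om (i : Ω[2](Z[T]).relIndex (ZZ P) = 2) : ⁅ZZ P, T⁆ ≤ Ω[2](Z[T]) :=
  comm2 i (normOmZ 2 (normG T)) (h.le.trans h.nZ)
theorem card : #P = 6 * #O[{2}](P) := by
  rw [← card_mul_relIndex h.le, h.idx, card2 h.idxQ h.QT]; ring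

end Par

end Cfsg.Agent.ZN
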